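import Groth.Agent.L05.InterPair.Vertical
import Groth.Agent.L08.Cube.RelNPull
import Mathlib.Algebra.GCDMonoid.Finset

/-!
The subgroup of the Picard group generated by the components of the special fibre.
-/

set_option autoImplicit false
set_option backward.isDefEq.respectTransparency false
set_option linter.style.haveILetI false
set_option linter.unusedSectionVars false
universe u

open CategoryTheory CategoryTheory.Limits AlgebraicGeometry TopologicalSpace

noncomputable section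

namespace Groth.L05.InterPair

open Groth.L05.FibreDecomp Groth.L08.Cube

attribute [local instance] Groth.L08.Cube.clMonoid

section General

variable {Z : Scheme.{u}}

theorem cl_eq_iff {A B : Z.Modules} : PicF.cl A = PicF.cl B ↔ Nonempty (A ≅ B) := PicGrp.cl_eq_cl_iff _ _

theorem cl_tensor' (A B : Z.Modules) : PicF.cl (CohB1.tensorMod A B) = PicF.cl A * PicF.cl B := rfl

theorem cl_unit : PicF.cl (Coh.structureModule Z) = 1 := rfl

theorem cl_eq_one_iff {A : Z.Modules} : PicF.cl A = 1 ↔ Nonempty (A ≅ Coh.structureModule Z) := by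
  rw [← cl_unit]; exact cl_eq_iff

theorem isInvertible_of_pow {A : Z.Modules} (hA : PicF.IsInvertible A) (m : ℕ) :
    PicF.IsInvertible (CohB1.tensorPow A m) := Groth.L18.Ample.isInvertible_tensorPow hA m

theorem isInvertible_multiTwist {m : ℕ} {L : Fin m → Z.Modules} (hL : ∀ i, PicF.IsInvertible (L i))
    (a : Fin m → ℕ) : PicF.IsInvertible (FGA.multiTwist L a) := by
  have : ∀ l : List (Fin m), PicF.IsInvertible (FGA.tensorList (l.map fun i => CohB1.tensorPow (L i) (a i))) := by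
    intro l
    induction l with
    | nil => exact Groth.L18.Ample.isInvertible_structureModule Z
    | cons i l ih => exact Groth.L18.GenLoc.isInvertible_tensor (isInvertible_of_pow (hL i) _) ih
  exact this _

theorem cl_multiTwist {m : ℕ} (L : Fin m → Z.Modules) (a : Fin m → ℕ) :
    PicF.cl (FGA.multiTwist L a) = ∏ i, PicF.cl (L i) ^ a i := by
  have : ∀ l : List (Fin m), PicF.cl (FGA.tensorList (l.map fun i => CohB1.tensorPow (L i) (a i))) =
      (l.map fun i => PicF.cl (L i) ^ a i).prod := by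
    intro l
    induction l with
    | nil => rfl
    | cons i l ih =>
      show PicF.cl (CohB1.tensorMod _ (FGA.tensorList _)) = _
      rw [cl_tensor', ih, cl_tensorPow]
      simp
  rw [FGA.multiTwist, this, ← List.ofFn_eq_map, List.prod_ofFn]

end General

variable {R : Type u} [CommRing R] [IsDomain R] [IsDiscreteValuationRing R]
  {X : Over (Spec (CommRingCat.of R))} [IsLocallyNoetherian X.left] [Flat X.hom] [IsProper X.hom]
  [IsIntegral X.left] {n : ℕ} (Γs : Fin n → ArSurf.VertComp R X)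

/-- The hypotheses in force: a regular model with connected fibre and no extra global functions. -/
structure Setup (L : Fin n → X.left.Modules) : Prop where
  hreg : Models.IsRegularScheme X.left
  hΓ : Models.IsComponentList R X Γs
  hL : ∀ i, ClSub.IsInverseOf (L i) (ClSub.idealMod (Γs i).ι.ker)
  hconn : _root_.IsPreconnected (Models.specialFibreSet R X)
  hsurj : Function.Surjective (Coh.toGlobal X.hom)

/-- The primitive vertical divisor. -/
def prim : Fin n → ℤ := fun i => ((Models.mult R X (Γs i) / Models.multGcd R X Γs : ℕ) : ℤ)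

variable {Γs} {L : Fin n → X.left.Modules} (S : Setup Γs L)

include S

theorem Setup.inv (i : Fin n) : PicF.IsInvertible (L i) :=
  isInvertible_of_cartier (isEffCartier S.hreg S.hΓ i) (S.hL i)

/-- The class of a component. -/
def Setup.gen (i : Fin n) : (PicF.Cl X.left)ˣ :=
  (isUnit_of_isInvertibleCl (c := PicF.cl (L i)) ⟨L i, rfl, S.inv i⟩).unit

/-- The class of a divisor supported on the special fibre. -/
def Setup.Φ (z : Fin n → ℤ) : (PicF.Cl X.left)ˣ := ∏ i, S.gen i ^ z i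

theorem Setup.Φ_add (z w : Fin n → ℤ) : S.Φ (z + w) = S.Φ z * S.Φ w := by
  simp [Setup.Φ, zpow_add, Finset.prod_mul_distrib]

theorem Setup.Φ_zero : S.Φ 0 = 1 := by simp [Setup.Φ]

theorem Setup.Φ_neg (z : Fin n → ℤ) : S.Φ (-z) = (S.Φ z)⁻¹ := by
  simp [Setup.Φ, zpow_neg, Finset.prod_inv_distrib]

theorem Setup.Φ_zsmul (k : ℤ) (z : Fin n → ℤ) : S.Φ (k • z) = S.Φ z ^ k := by
  simp [Setup.Φ, ← Finset.prod_zpow, ← zpow_mul, mul_comm k]

theorem Setup.Φ_nsmul (k : ℕ) (z : Fin n → ℤ) : S.Φ ((k : ℤ) • z) = S.Φ z ^ k := by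
  rw [S.Φ_zsmul, zpow_natCast]

theorem Setup.val_Φ_nat (a : Fin n → ℕ) :
    (S.Φ fun i => (a i : ℤ)).val = PicF.cl (FGA.multiTwist L a) := by
  rw [cl_multiTwist, Setup.Φ, Units.coe_prod]
  exact Finset.prod_congr rfl fun i _ => by rw [zpow_natCast, Units.val_pow_eq_pow_val]; rfl

theorem Setup.split (z : Fin n → ℤ) :
    z = (fun i => (((z i).toNat : ℕ) : ℤ)) - fun i => (((-z i).toNat : ℕ) : ℤ) :=
  funext fun i => (Int.toNat_sub_toNat_neg (z i)).symm

theorem Setup.Φ_split (z : Fin n → ℤ) :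
    S.Φ z * S.Φ (fun i => (((-z i).toNat : ℕ) : ℤ)) = S.Φ fun i => (((z i).toNat : ℕ) : ℤ) := by
  rw [← S.Φ_add]
  exact congrArg S.Φ (sub_eq_iff_eq_add.1 (S.split z).symm).symm

/-- The relations between the components. -/
theorem Setup.Φ_eq_one_iff (z : Fin n → ℤ) :
    S.Φ z = 1 ↔ ∃ c : ℤ, ∀ i, z i = c * (Models.mult R X (Γs i) : ℤ) := by
  have h := multiTwist_iso_iff S.hreg S.hΓ S.hL S.hconn S.hsurj (fun i => (z i).toNat) (fun i => (-z i).toNat)
  rw [← cl_eq_iff, ← S.val_Φ_nat, ← S.val_Φ_nat, Units.val_inj, ← S.Φ_split z,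
    mul_eq_right] at h
  rw [h]
  simp only [Int.toNat_sub_toNat_neg]

theorem Setup.exists_rep (z : Fin n → ℤ) : ∃ N : X.left.Modules, PicF.IsInvertible N ∧ PicF.cl N = (S.Φ z).val := by
  have ha := isInvertible_multiTwist (S.inv) (fun i => (z i).toNat)
  have hb := isInvertible_multiTwist (S.inv) (fun i => (-z i).toNat)
  obtain ⟨B, hB, ⟨e⟩⟩ := Groth.L08.Cube.exists_inverse hb
  refine ⟨CohB1.tensorMod (FGA.multiTwist L fun i => (z i).toNat) B, Groth.L18.GenLoc.isInvertible_tensor ha hB, ?_⟩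
  rw [cl_tensor', ← S.val_Φ_nat, ← S.Φ_split z, Units.val_mul, mul_assoc, S.val_Φ_nat, ← cl_tensor',
    cl_eq_one_iff.2 ⟨e⟩, mul_one]

theorem Setup.inter_tensorPow {A : X.left.Modules} (hA : PicF.IsInvertible A) (Γ : ArSurf.VertComp R X) :
    ∀ m : ℕ, ArSurf.inter R X (CohB1.tensorPow A m) Γ = m * ArSurf.inter R X A Γ
  | 0 => by rw [Nat.cast_zero, zero_mul]; exact inter_unit Γ
  | m + 1 => by
    show ArSurf.inter R X (CohB1.tensorMod _ A) Γ = _
    rw [inter_tensor Γ (isInvertible_of_pow hA m) hA, Setup.inter_tensorPow hA Γ m]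
    push_cast
    ring

theorem Setup.inter_multiTwist (a : Fin n → ℕ) (Γ : ArSurf.VertComp R X) :
    ArSurf.inter R X (FGA.multiTwist L a) Γ = ∑ i, (a i : ℤ) * ArSurf.inter R X (L i) Γ := by
  have : ∀ l : List (Fin n), PicF.IsInvertible (FGA.tensorList (l.map fun i => CohB1.tensorPow (L i) (a i))) ∧
      ArSurf.inter R X (FGA.tensorList (l.map fun i => CohB1.tensorPow (L i) (a i))) Γ =
        (l.map fun i => (a i : ℤ) * ArSurf.inter R X (L i) Γ).sum := by
    intro l
    induction l with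
    | nil => exact ⟨Groth.L18.Ample.isInvertible_structureModule _, inter_unit Γ⟩
    | cons i l ih =>
      refine ⟨Groth.L18.GenLoc.isInvertible_tensor (isInvertible_of_pow (S.inv i) _) ih.1, ?_⟩
      show ArSurf.inter R X (CohB1.tensorMod _ (FGA.tensorList _)) Γ = _
      rw [inter_tensor Γ (isInvertible_of_pow (S.inv i) _) ih.1, S.inter_tensorPow (S.inv i), ih.2]
      simp
  rw [FGA.multiTwist, (this _).2, ← List.ofFn_eq_map, List.sum_ofFn]

/-- The degree of a module in the class of a vertical divisor. -/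
theorem Setup.inter_of_cl {A : X.left.Modules} (hA : PicF.IsInvertible A) {z : Fin n → ℤ}
    (h : PicF.cl A = (S.Φ z).val) (Γ : ArSurf.VertComp R X) :
    ArSurf.inter R X A Γ = ∑ i, z i * ArSurf.inter R X (L i) Γ := by
  have h1 : PicF.cl (CohB1.tensorMod A (FGA.multiTwist L fun i => (-z i).toNat)) =
      PicF.cl (FGA.multiTwist L fun i => (z i).toNat) := by
    rw [cl_tensor', h, ← S.val_Φ_nat, ← S.val_Φ_nat, ← Units.val_mul, S.Φ_split]
  obtain ⟨e⟩ := cl_eq_iff.1 h1
  have h2 := inter_congr Γ e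
  rw [inter_tensor Γ hA (isInvertible_multiTwist S.inv _), S.inter_multiTwist, S.inter_multiTwist] at h2
  rw [← eq_sub_iff_add_eq, ← Finset.sum_sub_distrib] at h2
  rw [h2]
  refine Finset.sum_congr rfl fun i _ => ?_
  rw [← sub_mul, Int.toNat_sub_toNat_neg]

section Generic

variable {C : Scheme.{u}} [IsIntegral C] {f : C ⟶ Spec (CommRingCat.of (FractionRing R))} {g : C ⟶ X.left}
  (hg : IsPullback g f X.hom (Spec.map (CommRingCat.ofHom (algebraMap R (FractionRing R)))))

include hg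

theorem Setup.notMem_fibre (c : C) : g c ∉ Models.specialFibreSet R X := by
  intro h
  obtain ⟨ϖ, hϖ⟩ := IsDiscreteValuationRing.exists_irreducible R
  have hc : X.hom.base (g c) = IsLocalRing.closedPoint R := h
  have h1 : X.hom.base (g c) = Spec.map (CommRingCat.ofHom (algebraMap R (FractionRing R))) (f c) := by
    rw [← Scheme.Hom.comp_apply, hg.w, Scheme.Hom.comp_apply]
  have h2 : Spec.map (CommRingCat.ofHom (algebraMap R (FractionRing R))) (f c) ∈
      Set.range (Spec.map (CommRingCat.ofHom (algebraMap R (FractionRing R)))) := ⟨_, rfl⟩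
  rw [(isOpenImmersion_generic R hϖ).2, ← h1, hc] at h2
  exact h2 (by
    show ϖ ∈ IsLocalRing.maximalIdeal R
    rw [hϖ.maximalIdeal_eq]
    exact Ideal.mem_span_singleton_self ϖ)

theorem Setup.pullCl_gen (i : Fin n) : PicF.pullCl g (S.gen i).val = 1 := by
  have hD := isEffCartier S.hreg S.hΓ i
  have hsub : ((Γs i).ι.ker.support : Set X.left) ⊆ Models.specialFibreSet R X := by
    rw [support_ker]
    have hi : Set.range ((Γs i).ι.base : (Γs i).curve.left → X.left) ∈ Models.fibreComponents R X :=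
      S.hΓ.2 ▸ ⟨i, rfl⟩
    exact hi.1.2
  have hsupp : ∀ c, c ∉ (((Γs i).ι.ker.comap g).support : Set C) := fun c hc => by
    rw [Scheme.IdealSheafData.support_comap] at hc
    exact S.notMem_fibre hg c (hsub hc)
  have h1 : (Γs i).ι.ker.comap g = 1 := by
    refine Scheme.IdealSheafData.ext (funext fun U => ?_)
    rw [Groth.L22.CartierDecomp.ideal_eq_top fun z _ => hsupp z]
    symm
    exact Groth.L22.CartierDecomp.ideal_eq_top fun z _ => by
      show z ∉ ((⊤ : C.IdealSheafData).support : Set C)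
      simp
  obtain ⟨α, -, hαepi, -⟩ := Groth.L07.PrinParts.exists_idealMap g (Γs i).ι.ker 1 h1.symm
  haveI := hαepi
  haveI : IsIso α := Groth.L03.InterLen.isIso_of_epi_invertible α
    (Groth.L18.Ample.isInvertible_pullback g ((Groth.Agent.L19.IdealInvertible.isEffCartier_iff _).2 hD))
    ((Groth.Agent.L19.IdealInvertible.isEffCartier_iff _).2 isEffCartier_one)
  obtain ⟨e⟩ := nonempty_idealMod_one (Z := C)
  have hI : PicF.pullCl g (PicF.cl (ClSub.idealMod (Γs i).ι.ker)) = 1 :=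
    cl_eq_one_iff.2 ⟨asIso α ≪≫ e⟩
  have h2 : PicF.cl (L i) * PicF.cl (ClSub.idealMod (Γs i).ι.ker) = 1 := by
    rw [← cl_tensor']; exact cl_eq_one_iff.2 (S.hL i)
  have h3 := congrArg (PicF.pullCl g) h2
  rw [pullCl_mul, hI, mul_one, Groth.L08.Cube.pullCl_one] at h3
  exact h3

theorem Setup.pullCl_Φ (z : Fin n → ℤ) : PicF.pullCl g (S.Φ z).val = 1 := by
  have : Units.map (pullClHom g) (S.Φ z) = 1 := by
    rw [Setup.Φ, map_prod]
    refine Finset.prod_eq_one fun i _ => ?_
    rw [map_zpow, show Units.map (pullClHom g) (S.gen i) = 1 from Units.ext (S.pullCl_gen hg i), one_zpow]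
  exact congrArg Units.val this

theorem Setup.exists_eq_Φ {M : X.left.Modules} (hM : PicF.IsInvertible M)
    (htriv : PicF.pullCl g (PicF.cl M) = 1) : ∃ z : Fin n → ℤ, PicF.cl M = (S.Φ z).val := by
  obtain ⟨a, b, hab⟩ := exists_twist_of_trivial_generic S.hreg S.hΓ S.hL hg hM (cl_eq_one_iff.1 htriv)
  refine ⟨(fun i => (b i : ℤ)) - fun i => (a i : ℤ), ?_⟩
  have h := cl_eq_iff.2 hab
  rw [cl_tensor', ← S.val_Φ_nat, ← S.val_Φ_nat] at h
  rw [sub_eq_add_neg, S.Φ_add, S.Φ_neg, Units.val_mul, ← h, mul_assoc, Units.mul_inv, mul_one]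

/-- Two modules with the same restriction to the generic fibre differ by components. -/
theorem Setup.exists_eq_mul_Φ {M M' : X.left.Modules} (hM : PicF.IsInvertible M) (hM' : PicF.IsInvertible M')
    (heq : PicF.pullCl g (PicF.cl M') = PicF.pullCl g (PicF.cl M)) :
    ∃ z : Fin n → ℤ, PicF.cl M' = PicF.cl M * (S.Φ z).val := by
  obtain ⟨N, hN, ⟨e⟩⟩ := Groth.L08.Cube.exists_inverse hM
  have he : PicF.cl M * PicF.cl N = 1 := cl_eq_one_iff.2 ⟨e⟩
  obtain ⟨z, hz⟩ := S.exists_eq_Φ hg (Groth.L18.GenLoc.isInvertible_tensor hM' hN) (by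
    rw [cl_tensor', pullCl_mul, heq, ← pullCl_mul, he, Groth.L08.Cube.pullCl_one])
  refine ⟨z, ?_⟩
  rw [← hz, cl_tensor', mul_left_comm, he, mul_one]

end Generic

section Arith

theorem exists_bezout (m : Fin n → ℕ) :
    ∃ y : Fin n → ℤ, ((Finset.univ.gcd m : ℕ) : ℤ) = ∑ i, y i * (m i : ℤ) := by
  classical
  have : ∀ T : Finset (Fin n), ∃ y : Fin n → ℤ, ((T.gcd m : ℕ) : ℤ) = ∑ i ∈ T, y i * (m i : ℤ) := by
    intro T
    induction T using Finset.induction_on with
    | empty => exact ⟨0, by simp⟩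
    | insert a T ha ih =>
      obtain ⟨y, hy⟩ := ih
      refine ⟨fun i => if i = a then Nat.gcdA (m a) (T.gcd m) else Nat.gcdB (m a) (T.gcd m) * y i, ?_⟩
      rw [Finset.gcd_insert, Finset.sum_insert ha]
      dsimp only
      rw [if_pos rfl]
      show ((Nat.gcd (m a) (T.gcd m) : ℕ) : ℤ) = _
      rw [Nat.gcd_eq_gcd_ab, hy, mul_comm (m a : ℤ), mul_comm (∑ i ∈ T, y i * (m i : ℤ)), Finset.mul_sum]
      congr 1
      refine Finset.sum_congr rfl fun i hi => ?_
      rw [if_neg (fun e : i = a => ha (e ▸ hi))]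
      ring
  exact this Finset.univ

/-- A rational multiple of the multiplicities which is integral. -/
theorem Setup.exists_int_of_propto (hn : 0 < n) {z : Fin n → ℤ} {q : ℚ}
    (h : ∀ i, (z i : ℚ) = q * (Models.mult R X (Γs i) : ℚ)) :
    ∃ c : ℤ, (c : ℚ) = q * (Models.multGcd R X Γs : ℚ) ∧
      ∀ i, z i = c * ((Models.mult R X (Γs i) / Models.multGcd R X Γs : ℕ) : ℤ) := by
  obtain ⟨y, hy⟩ := exists_bezout (S := S) fun i => Models.mult R X (Γs i)
  refine ⟨∑ i, y i * z i, ?_, fun i => ?_⟩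
  · have hy' := congrArg (Int.cast : ℤ → ℚ) hy
    push_cast at hy' ⊢
    rw [Models.multGcd, hy', Finset.mul_sum]
    refine Finset.sum_congr rfl fun i _ => ?_
    rw [h]
    ring
  · obtain ⟨k, hk⟩ : Models.multGcd R X Γs ∣ Models.mult R X (Γs i) := Finset.gcd_dvd (Finset.mem_univ i)
    have hd : 0 < Models.multGcd R X Γs := by
      rcases Nat.eq_zero_or_pos (Models.multGcd R X Γs) with h0 | h0
      · have := mult_pos S.hreg S.hΓ i
        rw [hk, h0, zero_mul] at this
        omega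
      · exact h0
    have hq : (∑ i, y i * z i : ℤ) = (q * (Models.multGcd R X Γs : ℚ)) := by
      have hy' := congrArg (Int.cast : ℤ → ℚ) hy
      push_cast at hy' ⊢
      rw [Models.multGcd, hy', Finset.mul_sum]
      refine Finset.sum_congr rfl fun i _ => ?_
      rw [h]
      ring
    rw [show Models.mult R X (Γs i) / Models.multGcd R X Γs = k by rw [hk]; exact Nat.mul_div_cancel_left k hd]
    have h1 : (z i : ℚ) = (((∑ i, y i * z i) * (k : ℤ) : ℤ) : ℚ) := by
      rw [h i, hk, Int.cast_mul, hq]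
      push_cast
      ring
    exact_mod_cast h1

theorem Setup.multGcd_pos (i : Fin n) : 0 < Models.multGcd R X Γs := by
  have h : Models.multGcd R X Γs ∣ Models.mult R X (Γs i) := Finset.gcd_dvd (Finset.mem_univ i)
  exact Nat.pos_of_dvd_of_pos h (mult_pos S.hreg S.hΓ i)

theorem Setup.gcd_mul_prim (i : Fin n) : (Models.multGcd R X Γs : ℤ) * (prim Γs) i = (Models.mult R X (Γs i) : ℤ) := by
  have h : Models.multGcd R X Γs ∣ Models.mult R X (Γs i) := Finset.gcd_dvd (Finset.mem_univ i)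
  rw [prim, ← Nat.cast_mul, Nat.mul_div_cancel' h]

theorem Setup.Φ_prim_pow_eq_one_iff (hn : 0 < n) (k : ℤ) :
    S.Φ (prim Γs) ^ k = 1 ↔ (Models.multGcd R X Γs : ℤ) ∣ k := by
  rw [← S.Φ_zsmul, S.Φ_eq_one_iff]
  constructor
  · rintro ⟨c, hc⟩
    refine ⟨c, ?_⟩
    have h := hc ⟨0, hn⟩
    rw [Pi.smul_apply, smul_eq_mul, ← S.gcd_mul_prim] at h
    have hp : (prim Γs) ⟨0, hn⟩ ≠ 0 := fun h0 => by
      have := S.gcd_mul_prim ⟨0, hn⟩
      rw [h0, mul_zero] at this
      exact (mult_pos S.hreg S.hΓ ⟨0, hn⟩).ne' (by exact_mod_cast this.symm)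
    exact mul_right_cancel₀ hp (h.trans (by ring))
  · rintro ⟨c, rfl⟩
    exact ⟨c, fun i => by rw [Pi.smul_apply, smul_eq_mul, ← S.gcd_mul_prim]; ring⟩

/-- A vertical class of degree zero on every component is a power of the primitive one. -/
theorem Setup.exists_prim_pow (hn : 0 < n) {z : Fin n → ℤ}
    (hdeg : ∀ j, ∑ i, z i * ArSurf.inter R X (L i) (Γs j) = 0) : ∃ c : ℤ, S.Φ z = S.Φ (prim Γs) ^ c := by
  obtain ⟨q, hq⟩ := (form_nonpos_and_eq_zero_iff S.hreg S.hΓ S.hL S.hconn z).2.1 (by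
    rw [Fintype.sum_prod_type]
    refine Finset.sum_eq_zero fun j _ => ?_
    simp only [mul_assoc]
    rw [← Finset.mul_sum, hdeg j, mul_zero])
  obtain ⟨c, -, hc⟩ := S.exists_int_of_propto hn hq
  exact ⟨c, by rw [← S.Φ_zsmul]; exact congrArg S.Φ (funext hc)⟩

theorem Setup.exists_prim_pow_of_torsion (hn : 0 < n) {z : Fin n → ℤ} {h : ℕ} (hh : 0 < h)
    (ht : S.Φ z ^ h = 1) : ∃ c : ℤ, S.Φ z = S.Φ (prim Γs) ^ c ∧ (Models.multGcd R X Γs : ℤ) ∣ c * h := by
  rw [← S.Φ_nsmul, S.Φ_eq_one_iff] at ht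
  obtain ⟨e, he⟩ := ht
  obtain ⟨c, hc, hz⟩ := S.exists_int_of_propto hn (z := z) (q := (e : ℚ) / h) (fun i => by
    have := congrArg (Int.cast : ℤ → ℚ) (he i)
    rw [Pi.smul_apply, smul_eq_mul] at this
    push_cast at this
    rw [div_mul_eq_mul_div, eq_div_iff (by exact_mod_cast hh.ne')]
    linarith)
  refine ⟨c, by rw [← S.Φ_zsmul]; exact congrArg S.Φ (funext hz), e, ?_⟩
  have h2 : ((c * h : ℤ) : ℚ) = ((e * (Models.multGcd R X Γs : ℤ) : ℤ) : ℚ) := by
    push_cast
    rw [hc]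
    field_simp
  have h3 : c * (h : ℤ) = e * (Models.multGcd R X Γs : ℤ) := by exact_mod_cast h2
  rw [h3, mul_comm]

end Arith

section Results

variable {C : Scheme.{u}} [IsIntegral C] {f : C ⟶ Spec (CommRingCat.of (FractionRing R))} {g : C ⟶ X.left}
  (hg : IsPullback g f X.hom (Spec.map (CommRingCat.ofHom (algebraMap R (FractionRing R)))))

include hg

/-- S3340. -/
theorem Setup.pow_gcd_trivial (hn : 0 < n) {M : X.left.Modules} (hM : PicF.IsInvertible M)
    (htriv : PicF.pullCl g (PicF.cl M) = 1) (hdeg : ∀ i, ArSurf.inter R X M (Γs i) = 0) :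
    ∃ c : ℤ, PicF.cl M = ((S.Φ (prim Γs) ^ c : (PicF.Cl X.left)ˣ)).val := by
  obtain ⟨z, hz⟩ := S.exists_eq_Φ hg hM htriv
  obtain ⟨c, hc⟩ := S.exists_prim_pow hn (z := z) fun j => by rw [← S.inter_of_cl hM hz]; exact hdeg j
  exact ⟨c, by rw [hz, hc]⟩

theorem Setup.torsion_trivial (hn : 0 < n) {h : ℕ} (hh : 0 < h) {M : X.left.Modules} (hM : PicF.IsInvertible M)
    (htors : PicF.cl M ^ h = 1) (htriv : PicF.pullCl g (PicF.cl M) = 1) :
    ∃ c : ℤ, PicF.cl M = ((S.Φ (prim Γs) ^ c : (PicF.Cl X.left)ˣ)).val ∧ (Models.multGcd R X Γs : ℤ) ∣ c * h := by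
  obtain ⟨z, hz⟩ := S.exists_eq_Φ hg hM htriv
  obtain ⟨c, hc, hdvd⟩ := S.exists_prim_pow_of_torsion hn hh (z := z)
    (Units.ext (by rw [Units.val_pow_eq_pow_val, ← hz, htors, Units.val_one]))
  exact ⟨c, by rw [hz, hc], hdvd⟩

end Results

end Groth.L05.InterPair
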