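import Groth.Prelude.Def_ModelsG
import Groth.Agent.L16.Connected.AppIso
import Groth.Agent.L01.Regular
import Mathlib.RingTheory.DedekindDomain.Basic
import Mathlib.AlgebraicGeometry.Morphisms.Flat

/-!
The global functions on a regular proper model with `H⁰(C, O) = K` are the base ring.
-/

set_option autoImplicit false
set_option linter.style.haveILetI false
universe u

open CategoryTheory CategoryTheory.Limits AlgebraicGeometry

namespace Groth.L05.InterPair

theorem surjective_toGlobal (R : Type u) [CommRing R] [IsDomain R]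
    [IsDiscreteValuationRing R] (C X : Scheme.{u})
    (f : C ⟶ Spec (CommRingCat.of (FractionRing R))) (p : X ⟶ Spec (CommRingCat.of R))
    (hH0 : IsIso f.appTop) (hX : Models.IsRegularProperModel R X p C f) :
    Function.Surjective (Coh.toGlobal p) := by
  obtain ⟨hfl, -, -, g, hg⟩ := hX.1
  haveI := hX.2.1
  haveI := hfl
  haveI : IsReduced X := by
    haveI : ∀ x : X, _root_.IsReduced (X.presheaf.stalk x) := fun x => by
      haveI := hX.2.2 x
      haveI := Groth.L01.isDomain_of_regular (X.presheaf.stalk x)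
      infer_instance
    exact isReduced_of_isReduced_stalk X
  let S := Spec (CommRingCat.of R)
  haveI : IsDomain (CommRingCat.of R) := inferInstanceAs (IsDomain R)
  haveI : IsNoetherianRing (CommRingCat.of R) := inferInstanceAs (IsNoetherianRing R)
  let K := FractionRing R
  let j : Spec (CommRingCat.of K) ⟶ S := Spec.map (CommRingCat.ofHom (algebraMap R K))
  let η : S := genericPoint S
  have hj : ∀ q, j q = η := fun q => by
    show _ = genericPoint (Spec (CommRingCat.of R))
    rw [genericPoint_eq_bot_of_affine, Subsingleton.elim q (⊥ : PrimeSpectrum K)]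
    refine PrimeSpectrum.ext ?_
    show Ideal.comap (algebraMap R K) ⊥ = ⊥
    rw [← RingHom.ker_eq_comap_bot]
    exact (RingHom.injective_iff_ker_eq_bot _).1 (IsFractionRing.injective R K)
  let cR : CommRingCat.of R ⟶ Γ(S, ⊤) := (Scheme.ΓSpecIso (CommRingCat.of R)).inv
  let cK : CommRingCat.of K ⟶ Γ(Spec (CommRingCat.of K), ⊤) := (Scheme.ΓSpecIso (CommRingCat.of K)).inv
  let e : CommRingCat.of K ⟶ Γ(C, ⊤) := cK ≫ f.appTop
  haveI : IsIso e := inferInstance
  have hcomp : cR ≫ p.appTop ≫ g.appTop = CommRingCat.ofHom (algebraMap R K) ≫ e := by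
    rw [← Scheme.Hom.comp_appTop, hg.w, Scheme.Hom.comp_appTop]
    exact ((Scheme.ΓSpecIso_inv_naturality_assoc (CommRingCat.ofHom (algebraMap R K)) f.appTop)).symm
  have hginj : ∀ x : Γ(X, ⊤), g.appTop x = 0 → x = 0 := by
    intro x hx
    have hb : X.basicOpen x = ⊥ := by
      by_contra hne
      obtain ⟨a, ha⟩ : ((X.basicOpen x : X.Opens) : Set X).Nonempty :=
        Set.nonempty_iff_ne_empty.2 fun h => hne (SetLike.coe_injective h)
      obtain ⟨b, hb, hbη⟩ := Flat.generalizingMap p (genericPoint_specializes (α := S) (p a))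
      have hbx : b ∈ X.basicOpen x := hb.mem_open (X.basicOpen x).2 ha
      obtain ⟨c, hc, -⟩ := Scheme.Pullback.exists_preimage_pullback (f := p) (g := j) b default (hbη.trans (hj _).symm)
      have hgc : g (hg.isoPullback.inv c) = b := by
        rw [← Scheme.Hom.comp_apply, IsPullback.isoPullback_inv_fst]; exact hc
      have : hg.isoPullback.inv c ∈ g ⁻¹ᵁ X.basicOpen x := by
        show g (hg.isoPullback.inv c) ∈ X.basicOpen x
        rw [hgc]; exact hbx
      rw [Scheme.preimage_basicOpen_top, hx, Scheme.basicOpen_zero] at this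
      exact this
    exact basicOpen_eq_bot_iff _ |>.1 hb
  intro x
  obtain ⟨P, hP, hPx⟩ := Groth.L16.Connected.isIntegral_app p (isAffineOpen_top S) x
  obtain ⟨z, hz⟩ := (ConcreteCategory.bijective_of_isIso e).2 (g.appTop x)
  let iR : Γ(S, ⊤) →+* R := (Scheme.ΓSpecIso (CommRingCat.of R)).hom.hom
  have hiR : (algebraMap R K).comp iR = (inv e).hom.comp (g.appTop.hom.comp (p.app ⊤).hom) := by
    ext s
    obtain ⟨r, rfl⟩ := (ConcreteCategory.bijective_of_isIso cR).2 s
    apply (ConcreteCategory.bijective_of_isIso e).1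
    have hr : iR (cR r) = r := congr($((Scheme.ΓSpecIso (CommRingCat.of R)).inv_hom_id) r)
    have h1 := congr($hcomp r)
    simp only [RingHom.comp_apply]
    rw [hr]
    refine h1.symm.trans ?_
    exact (congr($(IsIso.inv_hom_id e) (g.appTop (p.appTop (cR r))))).symm
  have hzi : IsIntegral R z := by
    refine ⟨P.map iR, hP.map _, ?_⟩
    rw [Polynomial.eval₂_map, hiR, show z = (inv e).hom (g.appTop x) by
      rw [← hz]; exact (congr($(IsIso.hom_inv_id e) z)).symm, ← Polynomial.hom_eval₂, ← Polynomial.hom_eval₂]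
    exact (congrArg (fun t => (inv e).hom (g.appTop t)) hPx).trans ((congrArg (inv e).hom (map_zero g.appTop.hom)).trans (map_zero _))
  obtain ⟨r, hr⟩ := IsIntegrallyClosed.isIntegral_iff.mp hzi
  refine ⟨r, sub_eq_zero.1 (hginj _ ?_)⟩
  refine (g.appTop.hom.map_sub _ _).trans (sub_eq_zero.2 ?_)
  refine Eq.trans ?_ hz
  rw [← hr]
  exact congr($hcomp r)

end Groth.L05.InterPair
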