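import Groth.Agent.L05.InterPair.Form
import Groth.Agent.L05.InterPair.Global
import Groth.Agent.L03.SurfAmple.Growth
import Groth.Agent.L03.BlowPt.PullDiv
import Groth.Agent.L19.ProjBdl.PullComp
import Mathlib.Data.Rat.Floor

/-!
Divisors supported on the special fibre and their ideal modules.
-/

set_option autoImplicit false
set_option backward.isDefEq.respectTransparency false
set_option linter.style.haveILetI false
set_option linter.unusedSectionVars false
universe u

open CategoryTheory CategoryTheory.Limits AlgebraicGeometry TopologicalSpace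

noncomputable section

namespace Groth.L05.InterPair

open Groth.L05.FibreDecomp Groth.L21.Extend Groth.Agent.L19.IdealInvertible
open Groth.L00.Tensor (tensorIso tensorAssoc tensorComm tensorUnitRight tensorUnitLeft)

section General

variable {Z : Scheme.{u}} [IsIntegral Z]

/-- Rearranging four tensor factors. -/
theorem isInverseOf_tensor {A B I J : Z.Modules} (h₁ : ClSub.IsInverseOf A I) (h₂ : ClSub.IsInverseOf B J) :
    ClSub.IsInverseOf (CohB1.tensorMod A B) (CohB1.tensorMod I J) := by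
  obtain ⟨e⟩ := h₁
  obtain ⟨e'⟩ := h₂
  exact ⟨tensorAssoc A B _ ≪≫ tensorIso (Iso.refl A) ((tensorAssoc B I J).symm ≪≫
    tensorIso (tensorComm B I) (Iso.refl J) ≪≫ tensorAssoc I B J ≪≫ tensorIso (Iso.refl I) e' ≪≫
    tensorUnitRight I) ≪≫ e⟩

theorem nonempty_cancel {A B N : Z.Modules} (hN : PicF.IsInvertible N)
    (e : CohB1.tensorMod A N ≅ CohB1.tensorMod B N) : Nonempty (A ≅ B) := by
  obtain ⟨M, -, ⟨i⟩⟩ : ∃ M, PicF.IsInvertible M ∧ Nonempty (CohB1.tensorMod N M ≅ Coh.structureModule Z) :=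
    Groth.L08.Cube.exists_inverse hN
  exact ⟨(tensorUnitRight A).symm ≪≫ tensorIso (Iso.refl A) i.symm ≪≫ (tensorAssoc A N M).symm ≪≫
    tensorIso e (Iso.refl M) ≪≫ tensorAssoc B N M ≪≫ tensorIso (Iso.refl B) i ≪≫ tensorUnitRight B⟩

theorem nonempty_idealMod_one : Nonempty (ClSub.idealMod (1 : Z.IdealSheafData) ≅ Coh.structureModule Z) := by
  obtain ⟨e⟩ := Groth.L03.BlowPt.nonempty_idealMod_mul (X := Z) isEffCartier_one isEffCartier_one
  have h1 := (Groth.Agent.L19.IdealInvertible.isEffCartier_iff (1 : Z.IdealSheafData)).2 isEffCartier_one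
  rw [one_mul] at e
  obtain ⟨e'⟩ := nonempty_cancel h1 (e.symm ≪≫ (tensorUnitLeft (ClSub.idealMod (1 : Z.IdealSheafData))).symm)
  exact ⟨e'⟩

theorem isInverseOf_idealMod_mul {I J : Z.IdealSheafData} (hI : BlowUp.IsEffCartierIdeal I)
    (hJ : BlowUp.IsEffCartierIdeal J) {A B : Z.Modules} (h₁ : ClSub.IsInverseOf A (ClSub.idealMod I))
    (h₂ : ClSub.IsInverseOf B (ClSub.idealMod J)) :
    ClSub.IsInverseOf (CohB1.tensorMod A B) (ClSub.idealMod (I * J)) := by
  obtain ⟨e⟩ := Groth.L03.BlowPt.nonempty_idealMod_mul hI hJ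
  obtain ⟨e'⟩ := isInverseOf_tensor h₁ h₂
  exact ⟨tensorIso (Iso.refl _) e ≪≫ e'⟩

theorem isInverseOf_tensorPow {I : Z.IdealSheafData} (hI : BlowUp.IsEffCartierIdeal I) {A : Z.Modules}
    (h : ClSub.IsInverseOf A (ClSub.idealMod I)) :
    ∀ m : ℕ, ClSub.IsInverseOf (CohB1.tensorPow A m) (ClSub.idealMod (I ^ m))
  | 0 => by
    obtain ⟨e⟩ := nonempty_idealMod_one (Z := Z)
    rw [pow_zero]
    exact ⟨tensorUnitLeft _ ≪≫ e⟩
  | m + 1 => by
    rw [pow_succ]
    exact isInverseOf_idealMod_mul (isEffCartier_pow hI m) hI (isInverseOf_tensorPow hI h m) h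

theorem isInverseOf_tensorList {n : ℕ} {D : Fin n → Z.IdealSheafData}
    (hD : ∀ i, BlowUp.IsEffCartierIdeal (D i)) {L : Fin n → Z.Modules}
    (hL : ∀ i, ClSub.IsInverseOf (L i) (ClSub.idealMod (D i))) (a : Fin n → ℕ) :
    ∀ l : List (Fin n),
      BlowUp.IsEffCartierIdeal ((l.map fun i => D i ^ a i).prod) ∧
        ClSub.IsInverseOf (FGA.tensorList (l.map fun i => CohB1.tensorPow (L i) (a i)))
          (ClSub.idealMod ((l.map fun i => D i ^ a i).prod))
  | [] => by
    obtain ⟨e⟩ := nonempty_idealMod_one (Z := Z)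
    exact ⟨isEffCartier_one, ⟨tensorUnitLeft _ ≪≫ e⟩⟩
  | i :: l => by
    obtain ⟨h1, h2⟩ := isInverseOf_tensorList hD hL a l
    simp only [List.map_cons, List.prod_cons]
    exact ⟨Groth.L22.Ideals.isEffCartier_mul (isEffCartier_pow (hD i) _) h1,
      isInverseOf_idealMod_mul (isEffCartier_pow (hD i) _) h1 (isInverseOf_tensorPow (hD i) (hL i) _) h2⟩

theorem isInverseOf_multiTwist {n : ℕ} {D : Fin n → Z.IdealSheafData}
    (hD : ∀ i, BlowUp.IsEffCartierIdeal (D i)) {L : Fin n → Z.Modules}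
    (hL : ∀ i, ClSub.IsInverseOf (L i) (ClSub.idealMod (D i))) (a : Fin n → ℕ) :
    ClSub.IsInverseOf (FGA.multiTwist L a) (ClSub.idealMod (∏ i, D i ^ a i)) := by
  have h := (isInverseOf_tensorList hD hL a (List.finRange n)).2
  rwa [show ((List.finRange n).map fun i => D i ^ a i).prod = ∏ i, D i ^ a i by
    rw [← List.ofFn_eq_map, List.prod_ofFn]] at h

/-- A trivialised ideal is generated by a global function. -/
theorem exists_global_generator (I : Z.IdealSheafData)
    (φ : Coh.structureModule Z ≅ ClSub.idealMod I) :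
    ∃ f : Γ(Z, ⊤), ∀ U : Z.affineOpens,
      I.ideal U = Ideal.span {(Z.presheaf.map (homOfLE (le_top : U.1 ≤ ⊤)).op).hom f} := by
  have hm := Groth.L19.ProjBdl.isFrame_of_iso φ (Groth.L03.SurfAmple.isFrame_one (⊤ : Z.Opens))
  set m := φ.hom.app ⊤ (show Γ(Coh.structureModule Z, ⊤) from (1 : Γ(Z, ⊤)))
  refine ⟨io I ⊤ m, fun U => ?_⟩
  have h1 : io I U.1 (rs (ClSub.idealMod I) le_top m) =
      (Z.presheaf.map (homOfLE (le_top : U.1 ≤ ⊤)).op).hom (io I ⊤ m) := io_rs I le_top m
  refine le_antisymm (fun a ha => ?_) ((Ideal.span_singleton_le_iff_mem _).2 ?_)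
  · obtain ⟨n, hn⟩ := (Groth.L18.IdealModule.mem_ideal_iff I U.2 a).1 ha
    obtain ⟨c, hc⟩ := (hm U.1 le_top).2 n
    refine Ideal.mem_span_singleton'.2 ⟨c, ?_⟩
    rw [← h1, ← io_smul, ← hn]
    exact congrArg (io I U.1) hc
  · exact (Groth.L18.IdealModule.mem_ideal_iff I U.2 _).2 ⟨_, h1⟩

end General

variable {R : Type u} [CommRing R] [IsDomain R] [IsDiscreteValuationRing R]
  {X : Over (Spec (CommRingCat.of R))} [IsLocallyNoetherian X.left] [Flat X.hom] [IsProper X.hom]
  [IsIntegral X.left] (hreg : Models.IsRegularScheme X.left) {n : ℕ} {Γs : Fin n → ArSurf.VertComp R X}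
  (hΓ : Models.IsComponentList R X Γs)

/-- The divisor with the given coefficients. -/
def div (Γs : Fin n → ArSurf.VertComp R X) (a : Fin n → ℕ) : X.left.IdealSheafData :=
  ∏ i, (Γs i).ι.ker ^ a i

include hreg hΓ

theorem isEffCartier_div (a : Fin n → ℕ) : BlowUp.IsEffCartierIdeal (div Γs a) :=
  isEffCartier_prod _ fun i _ => isEffCartier_pow (isEffCartier hreg hΓ i) _

theorem div_add_mult (a : Fin n → ℕ) (s : ℕ) :
    div Γs (fun i => a i + s * Models.mult R X (Γs i)) = div Γs a * Models.specialFibreIdeal R X ^ s := by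
  rw [div, div, specialFibreIdeal_eq_prod hreg hΓ, ← Finset.prod_pow, ← Finset.prod_mul_distrib]
  exact Finset.prod_congr rfl fun i _ => by rw [← pow_mul, ← pow_add, mul_comm s]

theorem nonempty_idealMod_mul_fibre_pow {I : X.left.IdealSheafData} (hI : BlowUp.IsEffCartierIdeal I) :
    ∀ s : ℕ, Nonempty (ClSub.idealMod (I * Models.specialFibreIdeal R X ^ s) ≅ ClSub.idealMod I)
  | 0 => by rw [pow_zero, mul_one]; exact ⟨Iso.refl _⟩
  | s + 1 => by
    have hfib : BlowUp.IsEffCartierIdeal (Models.specialFibreIdeal R X) := by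
      rw [specialFibreIdeal_eq_prod hreg hΓ]; exact isEffCartier_div hreg hΓ _
    obtain ⟨e⟩ := nonempty_idealMod_mul_fibre_pow hI s
    obtain ⟨e'⟩ := Groth.L03.BlowPt.nonempty_idealMod_mul
      (Groth.L22.Ideals.isEffCartier_mul hI (isEffCartier_pow hfib s)) hfib
    obtain ⟨e₀⟩ := nonempty_iso_idealMod_fibre (X := X)
    rw [pow_succ, ← mul_assoc]
    exact ⟨e' ≪≫ tensorIso (Iso.refl _) e₀ ≪≫ tensorUnitRight _ ≪≫ e⟩

theorem nonempty_div_add_mult (a : Fin n → ℕ) (s : ℕ) :
    Nonempty (ClSub.idealMod (div Γs fun i => a i + s * Models.mult R X (Γs i)) ≅ ClSub.idealMod (div Γs a)) := by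
  rw [div_add_mult hreg hΓ]
  exact nonempty_idealMod_mul_fibre_pow hreg hΓ (isEffCartier_div hreg hΓ a) s

theorem negDeg_div (Γ : ArSurf.VertComp R X) (a : Fin n → ℕ) :
    negDeg Γ (div Γs a) = ∑ i, (a i : ℤ) * negDeg Γ (Γs i).ι.ker := by
  rw [div, negDeg_prod Γ _ fun i _ => isEffCartier_pow (isEffCartier hreg hΓ i) _]
  exact Finset.sum_congr rfl fun i _ => negDeg_pow Γ (isEffCartier hreg hΓ i) _

/-- Only the integral multiples of the fibre have trivial ideal module among the divisors below it. -/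
theorem eq_zero_of_trivial (hsurj : Function.Surjective (Coh.toGlobal X.hom)) (e : Fin n → ℕ) {p q : ℕ}
    (hq : ∀ i, q * e i = p * Models.mult R X (Γs i)) (hpq : p < q)
    (φ : Coh.structureModule X.left ≅ ClSub.idealMod (div Γs e)) (i₀ : Fin n) : p = 0 := by
  obtain ⟨ϖ, hϖ⟩ := IsDiscreteValuationRing.exists_irreducible R
  obtain ⟨F, hF⟩ := exists_global_generator _ φ
  obtain ⟨r, rfl⟩ := hsurj F
  have hpow : div Γs e ^ q = Models.specialFibreIdeal R X ^ p := by
    rw [div, specialFibreIdeal_eq_prod hreg hΓ, ← Finset.prod_pow, ← Finset.prod_pow]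
    exact Finset.prod_congr rfl fun i _ => by rw [← pow_mul, ← pow_mul, mul_comm (e i), hq, mul_comm p]
  set ξ := Models.genPtOf R X (Γs i₀)
  obtain ⟨_, ⟨W, hW, rfl⟩, hξW, -⟩ :=
    X.left.isBasis_affineOpens.exists_subset_of_mem_open (Set.mem_univ ξ) isOpen_univ
  let U : X.left.affineOpens := ⟨W, hW⟩
  haveI := hreg ξ
  haveI := Groth.L01.isDomain_of_regular (X.left.presheaf.stalk ξ)
  have h : Ideal.span {Models.stalkHom R X ξ r ^ q} = Ideal.span {Models.stalkHom R X ξ ϖ ^ p} := by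
    have h1 := congrArg (fun I => Groth.L22.Div.stalkIdeal I U ξ hξW) hpow
    simp only [Groth.L22.Div.stalkIdeal, Scheme.IdealSheafData.ideal_pow, Pi.pow_apply, Ideal.map_pow] at h1
    rw [hF U, Ideal.map_span, Set.image_singleton, ideal_specialFibreIdeal, hϖ.maximalIdeal_eq,
      Ideal.map_span, Set.image_singleton, Ideal.map_span, Set.image_singleton,
      Ideal.span_singleton_pow, Ideal.span_singleton_pow, germ_res U ξ hξW] at h1
    rw [← h1]
    exact congrArg (fun t => Ideal.span {t ^ q}) (germ_res U ξ hξW r).symm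
  have hpi : ¬ IsUnit (Models.stalkHom R X ξ ϖ) := by
    have hmem : ξ ∈ Models.specialFibreSet R X := by
      have hi : Set.range ((Γs i₀).ι.base : (Γs i₀).curve.left → X.left) ∈ Models.fibreComponents R X :=
        hΓ.2 ▸ ⟨i₀, rfl⟩
      exact hi.1.2 ⟨_, rfl⟩
    exact mem_specialFibreSet.1 hmem ϖ (by rw [hϖ.maximalIdeal_eq]; exact Ideal.mem_span_singleton_self ϖ)
  by_cases hr : r = 0
  · rw [hr, map_zero, zero_pow (by omega), Ideal.span_singleton_zero, eq_comm, Ideal.span_singleton_eq_bot] at h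
    exact absurd h (pow_ne_zero _ (stalkHom_ne_zero ξ hϖ.ne_zero))
  obtain ⟨k, u, rfl⟩ := IsDiscreteValuationRing.eq_unit_mul_pow_irreducible hr hϖ
  rw [map_mul, map_pow, mul_pow, ← pow_mul,
    Ideal.span_singleton_mul_left_unit ((u.isUnit.map _).pow _), Ideal.span_singleton_eq_span_singleton] at h
  have hkey := pow_injective_of_not_isUnit hpi (stalkHom_ne_zero ξ hϖ.ne_zero)
  by_contra hp0
  rcases Nat.eq_zero_or_pos k with hk | hk
  · rw [hk, zero_mul, pow_zero] at h
    exact hpi (isUnit_pow_iff hp0 |>.1 (associated_one_iff_isUnit.1 h.symm))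
  · rcases lt_trichotomy (k * q) p with hlt | heq | hgt
    · nlinarith
    · nlinarith
    · obtain ⟨w, hw⟩ := h
      obtain ⟨d, hd⟩ : ∃ d, k * q = p + (d + 1) := ⟨k * q - p - 1, by omega⟩
      rw [hd, pow_add, mul_assoc, mul_eq_left₀ (pow_ne_zero _ (stalkHom_ne_zero ξ hϖ.ne_zero)), pow_succ] at hw
      exact hpi (IsUnit.of_mul_eq_one (Models.stalkHom R X ξ ϖ ^ d * w.1) (by rw [← hw]; ring))

theorem multiTwist_iso_iff {L : Fin n → X.left.Modules}
    (hL : ∀ i, ClSub.IsInverseOf (L i) (ClSub.idealMod (Γs i).ι.ker))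
    (hconn : _root_.IsPreconnected (Models.specialFibreSet R X))
    (hsurj : Function.Surjective (Coh.toGlobal X.hom)) (a b : Fin n → ℕ) :
    Nonempty (FGA.multiTwist L a ≅ FGA.multiTwist L b) ↔
      ∃ c : ℤ, ∀ i, (a i : ℤ) - (b i : ℤ) = c * (Models.mult R X (Γs i) : ℤ) := by
  classical
  have hD := isEffCartier hreg hΓ
  have hinv := fun a => isInverseOf_multiTwist hD hL a
  have hinv' : ∀ a b : Fin n → ℕ, Nonempty (FGA.multiTwist L a ≅ FGA.multiTwist L b) ↔
      Nonempty (ClSub.idealMod (div Γs a) ≅ ClSub.idealMod (div Γs b)) := fun a b => by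
    obtain ⟨ea⟩ := hinv a
    obtain ⟨eb⟩ := hinv b
    constructor
    · rintro ⟨i⟩
      exact Groth.L03.BlowPt.nonempty_iso_of_inverse
        (tensorComm _ _ ≪≫ ea) (tensorComm _ _ ≪≫ tensorIso i (Iso.refl _) ≪≫ eb)
    · rintro ⟨i⟩
      exact Groth.L03.BlowPt.nonempty_iso_of_inverse ea (tensorIso (Iso.refl _) i ≪≫ eb)
  rw [hinv']
  constructor
  · rintro ⟨iab⟩
    rcases Nat.eq_zero_or_pos n with hn | hn
    · exact ⟨0, fun i => absurd i.2 (by omega)⟩
    let x : Fin n → ℤ := fun i => (a i : ℤ) - (b i : ℤ)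
    have hdeg : ∀ j, ∑ i, x i * ArSurf.inter R X (L i) (Γs j) = 0 := fun j => by
      have h1 : negDeg (Γs j) (div Γs a) = negDeg (Γs j) (div Γs b) := inter_congr (Γs j) iab
      rw [negDeg_div hreg hΓ, negDeg_div hreg hΓ] at h1
      have h2 : ∀ i, ArSurf.inter R X (L i) (Γs j) = - negDeg (Γs j) (Γs i).ι.ker := fun i =>
        inter_eq_neg_negDeg (Γs j) (hD i) (hL i)
      simp only [h2, x, mul_neg, sub_mul, Finset.sum_neg_distrib, Finset.sum_sub_distrib, h1, sub_self, neg_zero]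
    obtain ⟨c, hc⟩ := (form_nonpos_and_eq_zero_iff hreg hΓ hL hconn x).2.1 (by
      rw [Fintype.sum_prod_type]
      refine Finset.sum_eq_zero fun j _ => ?_
      simp only [mul_assoc]
      rw [← Finset.mul_sum, hdeg j, mul_zero])
    let m : Fin n → ℕ := fun i => Models.mult R X (Γs i)
    let t : ℤ := ⌊c⌋
    have hnum : 0 ≤ c - (t : ℚ) ∧ c - (t : ℚ) < 1 :=
      ⟨sub_nonneg.2 (Int.floor_le c), by have := Int.lt_floor_add_one c; linarith⟩
    have hy : ∀ i, (((a i : ℤ) - b i - t * m i : ℤ) : ℚ) = (c - (t : ℚ)) * m i := fun i => by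
      have := hc i
      simp only [x] at this
      push_cast at this ⊢
      rw [this]
      ring
    let e : Fin n → ℕ := fun i => ((a i : ℤ) - b i - t * m i).toNat
    have he : ∀ i, (e i : ℤ) = (a i : ℤ) - b i - t * m i := fun i => Int.toNat_of_nonneg (by
      exact_mod_cast (show (0 : ℚ) ≤ (((a i : ℤ) - b i - t * m i : ℤ) : ℚ) by
        rw [hy]; exact mul_nonneg hnum.1 (Nat.cast_nonneg _)))
    refine ⟨t, fun i => ?_⟩
    let q : ℕ := (c - (t : ℚ)).den
    let p : ℕ := (c - (t : ℚ)).num.toNat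
    have hp : (p : ℤ) = (c - (t : ℚ)).num := Int.toNat_of_nonneg (Rat.num_nonneg.2 hnum.1)
    have hq : ∀ i, q * e i = p * m i := fun i => by
      have h3 : ((q : ℚ) * (e i : ℚ)) = (p : ℚ) * (m i : ℚ) := by
        have h4 : (e i : ℚ) = (c - (t : ℚ)) * m i := by rw [← hy, ← he]; push_cast; rfl
        have h5 : (p : ℚ) = ((c - (t : ℚ)).num : ℚ) := by exact_mod_cast hp
        rw [h4, h5, ← Rat.mul_den_eq_num]
        ring
      exact_mod_cast h3
    have hpq : p < q := by
      have h6 : (c - (t : ℚ)).num < ((c - (t : ℚ)).den : ℤ) := by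
        have h7 := hnum.2
        rw [← Rat.num_div_den (c - (t : ℚ)), div_lt_one (by exact_mod_cast (c - (t : ℚ)).den_pos)] at h7
        exact_mod_cast h7
      rw [← hp] at h6
      exact_mod_cast h6
    have hbe : ∀ j, a j + (-t).toNat * m j = (b j + e j) + t.toNat * m j := fun j => by
      have h8 := he j
      have h9 : t = (t.toNat : ℤ) - ((-t).toNat : ℤ) := (Int.toNat_sub_toNat_neg t).symm
      zify
      rw [h9] at h8
      linear_combination -h8
    obtain ⟨φ⟩ : Nonempty (Coh.structureModule X.left ≅ ClSub.idealMod (div Γs e)) := by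
      obtain ⟨i1⟩ := nonempty_div_add_mult hreg hΓ a (-t).toNat
      obtain ⟨i2⟩ := nonempty_div_add_mult hreg hΓ (fun j => b j + e j) t.toNat
      have hcongr : (fun j => a j + (-t).toNat * Models.mult R X (Γs j)) =
          fun j => (b j + e j) + t.toNat * Models.mult R X (Γs j) := funext hbe
      rw [hcongr] at i1
      have hsplit : div Γs (fun j => b j + e j) = div Γs e * div Γs b := by
        rw [div, div, div, ← Finset.prod_mul_distrib]
        exact Finset.prod_congr rfl fun j _ => by rw [← pow_add, add_comm]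
      obtain ⟨i3⟩ := Groth.L03.BlowPt.nonempty_idealMod_mul (isEffCartier_div hreg hΓ e) (isEffCartier_div hreg hΓ b)
      rw [← hsplit] at i3
      exact nonempty_cancel ((Groth.Agent.L19.IdealInvertible.isEffCartier_iff _).2 (isEffCartier_div hreg hΓ b))
        (tensorUnitLeft _ ≪≫ iab.symm ≪≫ i1.symm ≪≫ i2 ≪≫ i3)
    have hp0 := eq_zero_of_trivial hreg hΓ hsurj e hq hpq φ ⟨0, hn⟩
    have hqe := hq i
    rw [hp0, zero_mul] at hqe
    have hq0 : 0 < q := (c - (t : ℚ)).den_pos
    have : e i = 0 := (Nat.mul_eq_zero.1 hqe).resolve_left hq0.ne'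
    have := he i
    simp only [m] at this
    omega
  · rintro ⟨c, hc⟩
    obtain ⟨i1⟩ := nonempty_div_add_mult hreg hΓ a (-c).toNat
    obtain ⟨i2⟩ := nonempty_div_add_mult hreg hΓ b c.toNat
    have hcongr : (fun j => a j + (-c).toNat * Models.mult R X (Γs j)) =
        fun j => b j + c.toNat * Models.mult R X (Γs j) := funext fun j => by
      have h8 := hc j
      rw [← Int.toNat_sub_toNat_neg c] at h8
      zify
      linear_combination h8
    rw [hcongr] at i1
    exact ⟨i1.symm ≪≫ i2⟩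

end Groth.L05.InterPair
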