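import Groth.Prelude.Def_ArSurf
import Groth.Agent.S1604
import Groth.Agent.L22.Inter.Fga
import Groth.Agent.L22.Nef.NumTriv
import Groth.Agent.L22.Nef.Bridge
import Groth.Agent.L22.CurveDeg.Det.Main
import Groth.Agent.L07.PrinParts.GrBaseChange
import Groth.Agent.L03.InterLen.Main
import Groth.Agent.L22.EnrSev.Basic

/-!
Degrees on an integral proper curve, in the normalisation `ArSurf.curveDeg`.
-/

set_option autoImplicit false
set_option backward.isDefEq.respectTransparency false
set_option linter.style.haveILetI false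
set_option linter.unusedSectionVars false
universe u

open CategoryTheory CategoryTheory.Limits AlgebraicGeometry TopologicalSpace

noncomputable section

namespace Groth.L05.InterPair

open Groth.L22.Inter Groth.L22.Nef
open Groth.L00.Tensor (tensorIso tensorAssoc tensorComm tensorUnitRight tensorUnitLeft)

variable (k : Type u) [Field k] {Y : Scheme.{u}} [Y.Over (Spec (CommRingCat.of k))]
  [IsProper (Y ↘ Spec (CommRingCat.of k))] (hd : topologicalKrullDim Y = 1)

include hd

theorem curveDeg_eq_euler (M : Y.Modules) :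
    ArSurf.curveDeg k Y M = Curv2.euler k Y M - Curv2.euler k Y (Coh.structureModule Y) := by
  haveI := Groth.L21.RR.isNoetherian_of_proper (X := Y) k
  have h1 : topologicalKrullDim Y ≤ ((1 : ℕ) : WithBot ℕ∞) := by rw [hd, Nat.cast_one]
  rw [ArSurf.curveDeg, eulerCharLE_eq k h1, eulerCharLE_eq k h1]

theorem curveDeg_congr {M N : Y.Modules} (e : M ≅ N) : ArSurf.curveDeg k Y M = ArSurf.curveDeg k Y N := by
  rw [curveDeg_eq_euler k hd, curveDeg_eq_euler k hd, Groth.L21.RR.euler_congr k e]

theorem curveDeg_unit : ArSurf.curveDeg k Y (Coh.structureModule Y) = 0 := sub_self _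

theorem curveDeg_eq_altT (M : Y.Modules) :
    (ArSurf.curveDeg k Y M : ℚ) = altT k (fun _ : Fin 1 => M) (Coh.structureModule Y) := by
  rw [altT_one, curveDeg_eq_euler k hd, Groth.L21.RR.euler_congr k (tensorUnitLeft M)]

theorem curveDeg_tensor {A B : Y.Modules} (hA : PicF.IsInvertible A) (hB : PicF.IsInvertible B) :
    ArSurf.curveDeg k Y (CohB1.tensorMod A B) = ArSurf.curveDeg k Y A + ArSurf.curveDeg k Y B := by
  classical
  haveI := Groth.L21.RR.isNoetherian_of_proper (X := Y) k
  have hsupp : topologicalKrullDim (CohB1.support (Coh.structureModule Y)) ≤ ((1 : ℕ) : WithBot ℕ∞) := by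
    rw [Nat.cast_one, ← hd]
    exact Topology.IsInducing.topologicalKrullDim_le Topology.IsInducing.subtypeVal
  have hup : ∀ C : Y.Modules, Function.update (fun _ : Fin 1 => A) 0 C = fun _ => C := fun C => by
    funext j; rw [Subsingleton.elim j 0, Function.update_self]
  have h := altT_update_tensor (k := k) (L := fun _ : Fin 1 => A) (fun _ => hA) 0 hA hB
    (Groth.L16.CohClosedPush.isCoh_structure (X := Y)) hsupp
  rw [hup, hup, hup, ← curveDeg_eq_altT k hd, ← curveDeg_eq_altT k hd, ← curveDeg_eq_altT k hd] at h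
  exact_mod_cast h

theorem curveDeg_of_inverse {L M : Y.Modules} (hM : PicF.IsInvertible M) (h : ClSub.IsInverseOf L M) :
    ArSurf.curveDeg k Y L = - ArSurf.curveDeg k Y M := by
  obtain ⟨e⟩ := h
  have hL : PicF.IsInvertible L := Groth.L22.EnrSev.isInvertible_of_inverse hM (tensorComm _ _ ≪≫ e)
  have h1 := curveDeg_tensor k hd hL hM
  rw [curveDeg_congr k hd e, curveDeg_unit k hd] at h1
  linarith

/-- The inverse of the ideal of an effective divisor has as degree the length of the divisor. -/
theorem curveDeg_inverse_idealMod {E : Y.IdealSheafData} (hE : BlowUp.IsEffCartierIdeal E) {L : Y.Modules}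
    (hL : ClSub.IsInverseOf L (ClSub.idealMod E)) :
    ArSurf.curveDeg k Y L = Module.finrank k (Coh.HH Y (ClSub.quotMod E) 0) := by
  haveI := Groth.L21.RR.isNoetherian_of_proper (X := Y) k
  have hEi := (Groth.Agent.L19.IdealInvertible.isEffCartier_iff E).2 hE
  obtain ⟨e⟩ := hL
  have hLi : PicF.IsInvertible L := Groth.L22.EnrSev.isInvertible_of_inverse hEi (tensorComm _ _ ≪≫ e)
  obtain ⟨-, hdeg⟩ := Groth.Agent.S1604.result k Y hd.le E hE L hLi ⟨e⟩ 1 (Coh.structureModule Y)
    (Groth.L22.CurveDeg.Det.isFinLocFreeOfRank_one_of_isInvertible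
      (Groth.L18.Ample.isInvertible_structureModule Y))
  rw [Groth.L21.RR.deg_congr k (tensorUnitLeft L)] at hdeg
  simp only [Curv2.deg, Nat.cast_one, one_mul, sub_self, add_zero] at hdeg
  rw [curveDeg_eq_euler k hd]
  exact hdeg

end Groth.L05.InterPair
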