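import Groth.Prelude.Def_ModelsG
import Groth.Agent.L05.InterPair.Curve
import Groth.Agent.L03.SurfNum.Fibre
import Groth.Agent.L16.HomSh.FullyFaithful

/-!
Intersection numbers of divisors with vertical curves as lengths.
-/

set_option autoImplicit false
set_option backward.isDefEq.respectTransparency false
set_option linter.style.haveILetI false
set_option linter.unusedSectionVars false
universe u

open CategoryTheory CategoryTheory.Limits AlgebraicGeometry TopologicalSpace

noncomputable section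

namespace Groth.L05.InterPair

open Groth.L00.Tensor (tensorIso tensorAssoc tensorComm tensorUnitRight tensorUnitLeft)

/-- The ideal of the intersection of a closed subscheme with the image of a closed immersion. -/
theorem map_comap_closed {Y X : Scheme.{u}} (i : Y ⟶ X) [IsClosedImmersion i] (J : X.IdealSheafData) :
    (J.comap i).map i = i.ker ⊔ J := by
  refine Scheme.IdealSheafData.ext (funext fun U => ?_)
  rw [Scheme.IdealSheafData.ideal_map_of_isAffineHom,
    Groth.L22.Ideals.comap_ideal i J U ⟨_, U.2.preimage i⟩ le_rfl, Scheme.Hom.appLE_eq_app,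
    Ideal.comap_map_of_surjective _ (i.app_surjective U.1 U.2), ← RingHom.ker_eq_comap_bot,
    ← Scheme.Hom.ker_apply, Scheme.IdealSheafData.ideal_sup, Pi.sup_apply, sup_comm]

/-- A divisor avoiding the generic point restricts to a divisor on an integral scheme. -/
theorem isEffCartier_comap {Y X : Scheme.{u}} [IsIntegral Y] (i : Y ⟶ X) {D : X.IdealSheafData}
    (hD : BlowUp.IsEffCartierIdeal D) (hη : i (genericPoint Y) ∉ (D.support : Set X)) :
    BlowUp.IsEffCartierIdeal (D.comap i) := by
  intro y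
  obtain ⟨U, hyU, g, -, hg⟩ := hD (i y)
  obtain ⟨V, hV, hyV, hle⟩ := exists_isAffineOpen_mem_and_subset (x := y) (U := i ⁻¹ᵁ U.1) hyU
  let V' : Y.affineOpens := ⟨V, hV⟩
  have hideal : (D.comap i).ideal V' = Ideal.span {(i.appLE U.1 V (fun z hz => hle hz)).hom g} := by
    rw [Groth.L22.Ideals.comap_ideal i D U V' (fun z hz => hle hz), hg, Ideal.map_span, Set.image_singleton]
  refine ⟨V', hyV, _, ?_, hideal⟩
  haveI : Nonempty (V : Y.Opens) := ⟨⟨y, hyV⟩⟩
  refine mem_nonZeroDivisors_of_ne_zero fun h0 => hη ?_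
  have hgV : genericPoint Y ∈ V := (genericPoint_specializes y).mem_open V.2 hyV
  have hmem : genericPoint Y ∈ ((D.comap i).support : Set Y) := by
    rw [Groth.L22.CartierDecomp.mem_support_iff (U := V') hgV, hideal, h0, Ideal.span_singleton_zero]
    exact bot_le
  rw [Scheme.IdealSheafData.support_comap] at hmem
  exact hmem

variable {R : Type u} [CommRing R] [IsDomain R] [IsDiscreteValuationRing R]
  {X : Over (Spec (CommRingCat.of R))}

local notation "κ" => IsLocalRing.ResidueField R

variable [IsProper X.hom] [IsLocallyNoetherian X.left] (Γ : ArSurf.VertComp R X)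

/-- The closed point as a closed immersion. -/
theorem isClosedImmersion_pt :
    IsClosedImmersion (Spec.map (CommRingCat.ofHom (IsLocalRing.residue R))) :=
  IsClosedImmersion.spec_of_surjective _ Ideal.Quotient.mk_surjective

theorem isProper_curve : IsProper (Γ.curve.left ↘ Spec (CommRingCat.of κ)) := by
  haveI := isClosedImmersion_pt (R := R)
  haveI : IsProper (Γ.curve.hom ≫ Spec.map (CommRingCat.ofHom (IsLocalRing.residue R))) :=
    Γ.w ▸ inferInstanceAs (IsProper (Γ.ι ≫ X.hom))
  exact IsProper.of_comp Γ.curve.hom (Spec.map (CommRingCat.ofHom (IsLocalRing.residue R)))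

theorem isInvertible_of_cartier {D : X.left.IdealSheafData} (hD : BlowUp.IsEffCartierIdeal D)
    {L : X.left.Modules} (hL : ClSub.IsInverseOf L (ClSub.idealMod D)) : PicF.IsInvertible L := by
  obtain ⟨e⟩ := hL
  exact Groth.L22.EnrSev.isInvertible_of_inverse ((Groth.Agent.L19.IdealInvertible.isEffCartier_iff D).2 hD)
    (tensorComm _ _ ≪≫ e)

theorem inter_congr {L M : X.left.Modules} (e : L ≅ M) : ArSurf.inter R X L Γ = ArSurf.inter R X M Γ := by
  haveI := isProper_curve Γ
  exact curveDeg_congr κ Γ.dim_eq ((Scheme.Modules.pullback Γ.ι).mapIso e)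

theorem inter_unit : ArSurf.inter R X (Coh.structureModule X.left) Γ = 0 := by
  haveI := isProper_curve Γ
  rw [ArSurf.inter, curveDeg_congr κ Γ.dim_eq (Groth.L29.LocFree.pullbackUnitIso Γ.ι)]
  exact curveDeg_unit κ Γ.dim_eq

theorem inter_tensor {L M : X.left.Modules} (hL : PicF.IsInvertible L) (hM : PicF.IsInvertible M) :
    ArSurf.inter R X (CohB1.tensorMod L M) Γ = ArSurf.inter R X L Γ + ArSurf.inter R X M Γ := by
  haveI := isProper_curve Γ
  rw [ArSurf.inter, curveDeg_congr κ Γ.dim_eq (Groth.L29.DC.PullTensor.pullTensor Γ.ι L M).symm]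
  exact curveDeg_tensor κ Γ.dim_eq (Groth.L18.Ample.isInvertible_pullback Γ.ι hL)
    (Groth.L18.Ample.isInvertible_pullback Γ.ι hM)

/-- The intersection of a divisor with a vertical curve not contained in it. -/
theorem inter_eq_finrank {D : X.left.IdealSheafData} (hD : BlowUp.IsEffCartierIdeal D)
    (hη : Models.genPtOf R X Γ ∉ (D.support : Set X.left)) {L : X.left.Modules}
    (hL : ClSub.IsInverseOf L (ClSub.idealMod D)) :
    ArSurf.inter R X L Γ =
      Module.finrank κ (Coh.HH Γ.curve.left (ClSub.quotMod (D.comap Γ.ι)) 0) := by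
  haveI := isProper_curve Γ
  have hE := isEffCartier_comap Γ.ι hD hη
  have hDi := (Groth.Agent.L19.IdealInvertible.isEffCartier_iff D).2 hD
  have hEi := (Groth.Agent.L19.IdealInvertible.isEffCartier_iff _).2 hE
  obtain ⟨α, -, hαepi, -⟩ := Groth.L07.PrinParts.exists_idealMap Γ.ι D (D.comap Γ.ι) rfl
  haveI := hαepi
  haveI : IsIso α :=
    Groth.L03.InterLen.isIso_of_epi_invertible α (Groth.L18.Ample.isInvertible_pullback Γ.ι hDi) hEi
  obtain ⟨e⟩ := hL
  exact curveDeg_inverse_idealMod κ Γ.dim_eq hE ⟨tensorIso (Iso.refl _) (asIso α).symm ≪≫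
    Groth.L29.DC.PullTensor.pullTensor Γ.ι L (ClSub.idealMod D) ≪≫
    (Scheme.Modules.pullback Γ.ι).mapIso e ≪≫ Groth.L29.LocFree.pullbackUnitIso Γ.ι⟩

/-- The sections on a closed subscheme of a vertical curve. -/
theorem exists_HH_quot_equiv (E : Γ.curve.left.IdealSheafData) :
    letI : E.subscheme.Over (Spec (CommRingCat.of κ)) := ⟨E.subschemeι ≫ Γ.curve.hom⟩
    Nonempty (Coh.HH E.subscheme (Coh.structureModule _) 0 ≃ₗ[κ]
      Coh.HH Γ.curve.left (ClSub.quotMod E) 0) := by
  letI : E.subscheme.Over (Spec (CommRingCat.of κ)) := ⟨E.subschemeι ≫ Γ.curve.hom⟩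
  haveI := isProper_curve Γ
  haveI := Groth.L21.RR.isNoetherian_of_proper (X := Γ.curve.left) κ
  haveI : IsLocallyNoetherian E.subscheme := LocallyOfFiniteType.isLocallyNoetherian E.subschemeι
  haveI : Γ.curve.left.IsSeparated := ⟨by
    rw [← terminal.comp_from (Γ.curve.left ↘ Spec (CommRingCat.of κ))]; infer_instance⟩
  exact Groth.L03.Euler.exists_HH_push_linearEquiv (k := κ) E.subschemeι (Coh.structureModule _)
    (Groth.L16.CohClosedPush.isCoh_structure (X := E.subscheme)).1 rfl 0

/-- The length of the intersection of two vertical curves is symmetric. -/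
theorem finrank_comap_symm (Γ Γ' : ArSurf.VertComp R X) :
    Module.finrank κ (Coh.HH Γ.curve.left (ClSub.quotMod (Γ'.ι.ker.comap Γ.ι)) 0) =
      Module.finrank κ (Coh.HH Γ'.curve.left (ClSub.quotMod (Γ.ι.ker.comap Γ'.ι)) 0) := by
  set E := Γ'.ι.ker.comap Γ.ι
  set E' := Γ.ι.ker.comap Γ'.ι
  letI : E.subscheme.Over (Spec (CommRingCat.of κ)) := ⟨E.subschemeι ≫ Γ.curve.hom⟩
  letI : E'.subscheme.Over (Spec (CommRingCat.of κ)) := ⟨E'.subschemeι ≫ Γ'.curve.hom⟩
  obtain ⟨e₁⟩ := exists_HH_quot_equiv Γ E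
  obtain ⟨e₂⟩ := exists_HH_quot_equiv Γ' E'
  rw [← e₁.finrank_eq, ← e₂.finrank_eq]
  haveI := isProper_curve Γ
  haveI := isProper_curve Γ'
  haveI := Groth.L21.RR.isNoetherian_of_proper (X := Γ.curve.left) κ
  haveI := Groth.L21.RR.isNoetherian_of_proper (X := Γ'.curve.left) κ
  haveI : IsLocallyNoetherian E.subscheme := LocallyOfFiniteType.isLocallyNoetherian E.subschemeι
  haveI : IsLocallyNoetherian E'.subscheme := LocallyOfFiniteType.isLocallyNoetherian E'.subschemeι
  haveI : E'.subscheme.IsSeparated := ⟨by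
    rw [← terminal.comp_from (E'.subschemeι ≫ (Γ'.curve.left ↘ Spec (CommRingCat.of κ)))]; infer_instance⟩
  let a := E.subschemeι ≫ Γ.ι
  let b := E'.subschemeι ≫ Γ'.ι
  have hk : b.ker = a.ker := by
    show (E'.map Γ'.ι) = E.map Γ.ι
    rw [map_comap_closed, map_comap_closed, sup_comm]
  haveI := IsClosedImmersion.isIso_lift b a hk
  let θ := IsClosedImmersion.lift b a hk.le
  have hθ : θ ≫ b = a := IsClosedImmersion.lift_fac _ _ _
  have hover : θ ≫ (E'.subscheme ↘ Spec (CommRingCat.of κ)) = E.subscheme ↘ Spec (CommRingCat.of κ) := by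
    haveI := isClosedImmersion_pt (R := R)
    rw [← cancel_mono (Spec.map (CommRingCat.ofHom (IsLocalRing.residue R)))]
    show (θ ≫ E'.subschemeι ≫ Γ'.curve.hom) ≫ _ = (E.subschemeι ≫ Γ.curve.hom) ≫ _
    simp only [Category.assoc, ← Γ.w, ← Γ'.w]
    simpa [a, b] using congrArg (fun t => t ≫ X.hom) hθ
  obtain ⟨e₃⟩ := Groth.L03.Euler.exists_HH_push_linearEquiv (k := κ) θ (Coh.structureModule _)
    (Groth.L16.CohClosedPush.isCoh_structure (X := E.subscheme)).1 hover 0
  rw [e₃.finrank_eq]
  haveI := Groth.L20.DescLocus.isIso_unitToPush θ (fun U => inferInstance)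
  exact (Groth.L03.Euler.finrank_HH_of_iso (k := κ) (asIso (ClSub.unitToPush θ)) 0).symm

/-- A divisor on a vertical curve has length zero only if it is empty. -/
theorem finrank_eq_zero_iff (E : Γ.curve.left.IdealSheafData) :
    Module.finrank κ (Coh.HH Γ.curve.left (ClSub.quotMod E) 0) = 0 ↔ IsEmpty E.subscheme := by
  haveI := isProper_curve Γ
  haveI := Groth.L21.RR.isNoetherian_of_proper (X := Γ.curve.left) κ
  letI : E.subscheme.Over (Spec (CommRingCat.of κ)) := ⟨E.subschemeι ≫ Γ.curve.hom⟩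
  haveI : IsProper (E.subscheme ↘ Spec (CommRingCat.of κ)) :=
    inferInstanceAs (IsProper (E.subschemeι ≫ (Γ.curve.left ↘ Spec (CommRingCat.of κ))))
  haveI := Groth.L21.RR.isNoetherian_of_proper (X := E.subscheme) κ
  obtain ⟨e⟩ := exists_HH_quot_equiv Γ E
  rw [← e.finrank_eq]
  haveI := Groth.L21.RR.finite_HH' (k := κ) (Groth.L16.CohClosedPush.isCoh_structure (X := E.subscheme)) 0
  rw [Module.finrank_zero_iff]
  let h0 := Groth.L16.HomSh.h0Equiv (Coh.structureModule E.subscheme)
  constructor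
  · intro h
    haveI := h
    haveI : Subsingleton Γ(E.subscheme, ⊤) := h0.symm.injective.subsingleton
    refine ⟨fun x => ?_⟩
    exact not_subsingleton (E.subscheme.presheaf.stalk x)
      ((E.subscheme.presheaf.germ ⊤ x trivial).hom.codomain_trivial)
  · intro h
    haveI := h
    have h1 : (⊤ : E.subscheme.Opens) = ⊥ := Subsingleton.elim _ _
    haveI : Subsingleton Γ(E.subscheme, ⊤) := by rw [h1]; infer_instance
    haveI : Subsingleton Γ(Coh.structureModule E.subscheme, ⊤) := ‹Subsingleton Γ(E.subscheme, ⊤)›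
    exact h0.injective.subsingleton

end Groth.L05.InterPair
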