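import Groth.Agent.L05.FibreDecomp.Main
import Groth.Agent.L05.InterPair.Main
import Groth.Agent.L03.BlowPt.OffExc
import Groth.Agent.L07.ParafPrincipal
import Groth.Agent.L21.RR.PicFieldExt
import Mathlib.AlgebraicGeometry.PullbackCarrier

/-!
The intersection form on the components of the special fibre of a regular surface over a DVR.
-/

set_option autoImplicit false
set_option backward.isDefEq.respectTransparency false
set_option linter.style.haveILetI false
set_option linter.unusedSectionVars false
universe u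

open CategoryTheory CategoryTheory.Limits AlgebraicGeometry TopologicalSpace

noncomputable section

namespace Groth.L05.InterPair

open Groth.L05.FibreDecomp
open Groth.L00.Tensor (tensorIso tensorAssoc tensorComm tensorUnitRight tensorUnitLeft)

variable {R : Type u} [CommRing R] [IsDomain R] [IsDiscreteValuationRing R]
  {X : Over (Spec (CommRingCat.of R))}

local notation "κ" => IsLocalRing.ResidueField R

/-- A regular flat model of an integral scheme is integral. -/
theorem isIntegral_of_model [Flat X.hom] (hreg : Models.IsRegularScheme X.left) {C : Scheme.{u}} [IsIntegral C]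
    {f : C ⟶ Spec (CommRingCat.of (FractionRing R))} {g : C ⟶ X.left}
    (hg : IsPullback g f X.hom (Spec.map (CommRingCat.ofHom (algebraMap R (FractionRing R))))) :
    IsIntegral X.left := by
  obtain ⟨ϖ, hϖ⟩ := IsDiscreteValuationRing.exists_irreducible R
  have hgen : ∀ x : X.left, g (genericPoint C) ⤳ x := fun x => by
    obtain ⟨_, ⟨W, hW, rfl⟩, hxW, -⟩ :=
      X.left.isBasis_affineOpens.exists_subset_of_mem_open (Set.mem_univ x) isOpen_univ
    haveI := hreg x
    haveI := Groth.L01.isDomain_of_regular (X.left.presheaf.stalk x)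
    obtain ⟨y, hyx, hy⟩ := exists_generization ⟨W, hW⟩ x hxW ⊥
    have hyT : y ∉ Models.specialFibreSet R X := by
      rw [← support_specialFibreIdeal, hy, stalkIdeal_specialFibreIdeal, le_bot_iff, hϖ.maximalIdeal_eq,
        Ideal.map_span, Set.image_singleton, Ideal.span_singleton_eq_bot]
      exact stalkHom_ne_zero x hϖ.ne_zero
    have hpy : (X.hom.base y).asIdeal = ⊥ := by
      by_contra hne
      exact hyT (PrimeSpectrum.ext (IsLocalRing.eq_maximalIdeal
        ((X.hom.base y).2.isMaximal hne)))
    obtain ⟨c, hc, -⟩ := Scheme.exists_preimage_of_isPullback hg y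
      (IsLocalRing.closedPoint (FractionRing R)) (PrimeSpectrum.ext (by
        show (X.hom.base y).asIdeal = _
        rw [hpy]
        refine (le_antisymm ?_ bot_le).symm
        intro a ha
        have h1 : algebraMap R (FractionRing R) a ∈ IsLocalRing.maximalIdeal (FractionRing R) := ha
        rw [IsLocalRing.maximalIdeal_eq_bot, Ideal.mem_bot] at h1
        exact (IsFractionRing.to_map_eq_zero_iff).1 h1))
    rw [← hc] at hyx
    exact ((genericPoint_specializes c).map g.continuous).trans hyx
  haveI : IrreducibleSpace X.left :=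
    { isPreirreducible_univ := by
        rw [show (Set.univ : Set X.left) = closure {g (genericPoint C)} from
          (Set.eq_univ_of_forall fun x => specializes_iff_mem_closure.1 (hgen x)).symm]
        exact isPreirreducible_singleton.closure
      toNonempty := ⟨g (genericPoint C)⟩ }
  haveI : IsReduced X.left := by
    haveI : ∀ x, _root_.IsReduced (X.left.presheaf.stalk x) := fun x => by
      haveI := hreg x
      haveI := Groth.L01.isDomain_of_regular (X.left.presheaf.stalk x)
      infer_instance
    exact isReduced_of_isReduced_stalk X.left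
  exact isIntegral_of_irreducibleSpace_of_isReduced X.left

/-- The ideal of the special fibre is trivial as a module. -/
theorem nonempty_iso_idealMod_fibre [Flat X.hom] :
    Nonempty (ClSub.idealMod (Models.specialFibreIdeal R X) ≅ Coh.structureModule X.left) := by
  obtain ⟨ϖ, hϖ⟩ := IsDiscreteValuationRing.exists_irreducible R
  haveI : IsDomain (CommRingCat.of R) := inferInstanceAs (IsDomain R)
  let S := Spec (CommRingCat.of R)
  let U : S.affineOpens := ⟨⊤, isAffineOpen_top S⟩
  let c := (Scheme.ΓSpecIso (CommRingCat.of R)).inv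
  let I := Curv2.idealSheaf R (IsLocalRing.maximalIdeal R)
  have hI : I.ideal U = Ideal.span {c ϖ} := by
    show (Curv2.idealSheaf R (IsLocalRing.maximalIdeal R)).ideal ⟨⊤, isAffineOpen_top S⟩ = _
    rw [Curv2.idealSheaf, Scheme.IdealSheafData.ofIdealTop_ideal, hϖ.maximalIdeal_eq, Ideal.map_span,
      Set.image_singleton]
    simp only [Ideal.map_span, Set.image_singleton]
    exact congrArg (fun t => Ideal.span {t}) (by simp; rfl)
  obtain ⟨m, hm⟩ := Groth.L07.ParafPrincipal.isGen_idealMod I U (c ϖ) hI
    fun h => hϖ.ne_zero ((ConcreteCategory.bijective_of_isIso c).1 (h.trans (map_zero _).symm))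
  obtain ⟨e⟩ := Groth.L21.PicExt.nonempty_iso_of_isFrame_top (s := m) hm
  obtain ⟨α, -, -, hiso⟩ := Groth.L07.PrinParts.exists_idealMap X.hom I (Models.specialFibreIdeal R X) rfl
  haveI := hiso (Groth.L07.PrinParts.mono_pullback_idealι X.hom _)
  exact ⟨(asIso α).symm ≪≫ (Scheme.Modules.pullback X.hom).mapIso e.symm ≪≫
    Groth.L29.LocFree.pullbackUnitIso X.hom⟩

theorem isEffCartier_one {Z : Scheme.{u}} : BlowUp.IsEffCartierIdeal (1 : Z.IdealSheafData) := fun z => by
  obtain ⟨_, ⟨W, hW, rfl⟩, hzW, -⟩ :=
    Z.isBasis_affineOpens.exists_subset_of_mem_open (Set.mem_univ z) isOpen_univ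
  exact ⟨⟨W, hW⟩, hzW, 1, one_mem _, by simp⟩

theorem isEffCartier_pow {Z : Scheme.{u}} {I : Z.IdealSheafData} (hI : BlowUp.IsEffCartierIdeal I) :
    ∀ m : ℕ, BlowUp.IsEffCartierIdeal (I ^ m)
  | 0 => by rw [pow_zero]; exact isEffCartier_one
  | m + 1 => by rw [pow_succ]; exact Groth.L22.Ideals.isEffCartier_mul (isEffCartier_pow hI m) hI

theorem isEffCartier_prod {Z : Scheme.{u}} {ι : Type*} (s : Finset ι) {I : ι → Z.IdealSheafData}
    (hI : ∀ i ∈ s, BlowUp.IsEffCartierIdeal (I i)) : BlowUp.IsEffCartierIdeal (∏ i ∈ s, I i) := by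
  classical
  induction s using Finset.induction_on with
  | empty => rw [Finset.prod_empty]; exact isEffCartier_one
  | insert a t ha ih =>
    rw [Finset.prod_insert ha]
    exact Groth.L22.Ideals.isEffCartier_mul (hI a (Finset.mem_insert_self a t))
      (ih fun i hi => hI i (Finset.mem_insert_of_mem hi))

variable [IsProper X.hom] [IsLocallyNoetherian X.left]

/-- Minus the degree of a divisor on a vertical curve. -/
def negDeg (Γ : ArSurf.VertComp R X) (I : X.left.IdealSheafData) : ℤ :=
  ArSurf.inter R X (ClSub.idealMod I) Γ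

variable [IsIntegral X.left] (Γ : ArSurf.VertComp R X)

theorem negDeg_mul {I J : X.left.IdealSheafData} (hI : BlowUp.IsEffCartierIdeal I)
    (hJ : BlowUp.IsEffCartierIdeal J) : negDeg Γ (I * J) = negDeg Γ I + negDeg Γ J := by
  obtain ⟨e⟩ := Groth.L03.BlowPt.nonempty_idealMod_mul hI hJ
  rw [negDeg, inter_congr Γ e]
  exact inter_tensor Γ ((Groth.Agent.L19.IdealInvertible.isEffCartier_iff I).2 hI)
    ((Groth.Agent.L19.IdealInvertible.isEffCartier_iff J).2 hJ)

theorem negDeg_one : negDeg Γ 1 = 0 := by
  have h := negDeg_mul Γ (isEffCartier_one (Z := X.left)) isEffCartier_one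
  rw [one_mul] at h
  linarith

theorem negDeg_pow {I : X.left.IdealSheafData} (hI : BlowUp.IsEffCartierIdeal I) :
    ∀ m : ℕ, negDeg Γ (I ^ m) = m * negDeg Γ I
  | 0 => by rw [pow_zero, negDeg_one, Nat.cast_zero, zero_mul]
  | m + 1 => by
    rw [pow_succ, negDeg_mul Γ (isEffCartier_pow hI m) hI, negDeg_pow hI m]
    push_cast
    ring

theorem negDeg_prod {ι : Type*} (s : Finset ι) {I : ι → X.left.IdealSheafData}
    (hI : ∀ i ∈ s, BlowUp.IsEffCartierIdeal (I i)) : negDeg Γ (∏ i ∈ s, I i) = ∑ i ∈ s, negDeg Γ (I i) := by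
  classical
  induction s using Finset.induction_on with
  | empty => rw [Finset.prod_empty, Finset.sum_empty, negDeg_one]
  | insert a t ha ih =>
    have ht : ∀ i ∈ t, BlowUp.IsEffCartierIdeal (I i) := fun i hi => hI i (Finset.mem_insert_of_mem hi)
    rw [Finset.prod_insert ha, Finset.sum_insert ha,
      negDeg_mul Γ (hI a (Finset.mem_insert_self a t)) (isEffCartier_prod t ht), ih ht]

theorem inter_eq_neg_negDeg {I : X.left.IdealSheafData} (hI : BlowUp.IsEffCartierIdeal I)
    {L : X.left.Modules} (hL : ClSub.IsInverseOf L (ClSub.idealMod I)) :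
    ArSurf.inter R X L Γ = - negDeg Γ I := by
  have hi := (Groth.Agent.L19.IdealInvertible.isEffCartier_iff I).2 hI
  have hLi := isInvertible_of_cartier hI hL
  obtain ⟨e⟩ := hL
  have h := inter_tensor Γ hLi hi
  rw [inter_congr Γ e, inter_unit] at h
  rw [negDeg]
  linarith

section Components

variable [Flat X.hom] (hreg : Models.IsRegularScheme X.left) {n : ℕ} {Γs : Fin n → ArSurf.VertComp R X}
  (hΓ : Models.IsComponentList R X Γs) {L : Fin n → X.left.Modules}
  (hL : ∀ i, ClSub.IsInverseOf (L i) (ClSub.idealMod (Γs i).ι.ker))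

include hreg hΓ hL

theorem sum_mult_mul_inter (Γ : ArSurf.VertComp R X) :
    ∑ i, (Models.mult R X (Γs i) : ℤ) * ArSurf.inter R X (L i) Γ = 0 := by
  have hD := isEffCartier hreg hΓ
  obtain ⟨e⟩ := nonempty_iso_idealMod_fibre (X := X)
  have h0 : negDeg Γ (Models.specialFibreIdeal R X) = 0 := by
    rw [negDeg, inter_congr Γ e, inter_unit]
  rw [specialFibreIdeal_eq_prod hreg hΓ, negDeg_prod Γ _ fun i _ => isEffCartier_pow (hD i) _] at h0
  rw [← neg_eq_zero, ← Finset.sum_neg_distrib]
  refine Eq.trans (Finset.sum_congr rfl fun i _ => ?_) h0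
  rw [inter_eq_neg_negDeg Γ (hD i) (hL i), negDeg_pow Γ (hD i)]
  ring

theorem inter_eq_finrank_comap {i j : Fin n} (hij : i ≠ j) :
    ArSurf.inter R X (L j) (Γs i) =
      Module.finrank κ (Coh.HH (Γs i).curve.left (ClSub.quotMod ((Γs j).ι.ker.comap (Γs i).ι)) 0) :=
  inter_eq_finrank (Γs i) (isEffCartier hreg hΓ j) (fun h => hij (eq_of_genPtOf_mem hΓ h)) (hL j)

theorem inter_symm (i j : Fin n) :
    ArSurf.inter R X (L j) (Γs i) = ArSurf.inter R X (L i) (Γs j) := by
  rcases eq_or_ne i j with rfl | hij
  · rfl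
  rw [inter_eq_finrank_comap hreg hΓ hL hij, inter_eq_finrank_comap hreg hΓ hL hij.symm, finrank_comap_symm]

theorem inter_nonneg_and_eq_zero_iff {i j : Fin n} (hij : i ≠ j) :
    0 ≤ ArSurf.inter R X (L j) (Γs i) ∧
      (ArSurf.inter R X (L j) (Γs i) = 0 ↔
        Disjoint (Set.range ((Γs i).ι.base : (Γs i).curve.left → X.left))
          (Set.range ((Γs j).ι.base : (Γs j).curve.left → X.left))) := by
  rw [inter_eq_finrank_comap hreg hΓ hL hij]
  refine ⟨Int.natCast_nonneg _, ?_⟩
  rw [Int.natCast_eq_zero, finrank_eq_zero_iff, ← Set.range_eq_empty_iff (f :=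
      (((Γs j).ι.ker.comap (Γs i).ι).subschemeι.base :
        ((Γs j).ι.ker.comap (Γs i).ι).subscheme → (Γs i).curve.left)),
    Scheme.IdealSheafData.range_subschemeι, Scheme.IdealSheafData.support_comap, ← support_ker (Γs j),
    Set.disjoint_left]
  constructor
  · rintro h _ ⟨y, rfl⟩ hy
    exact (Set.eq_empty_iff_forall_notMem.1 h) y hy
  · exact fun h => Set.eq_empty_iff_forall_notMem.2 fun y hy => h ⟨y, rfl⟩ hy

end Components

end Groth.L05.InterPair
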