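import Groth.Agent.L05.InterPair.Model
import Groth.Agent.L15.CohFlat
import Groth.Agent.S1684

/-!
The intersection form on any family of vertical curves is non-positive.
-/

set_option autoImplicit false
set_option backward.isDefEq.respectTransparency false
set_option linter.style.haveILetI false
set_option linter.unusedSectionVars false
universe u

open CategoryTheory CategoryTheory.Limits AlgebraicGeometry TopologicalSpace

noncomputable section

namespace Groth.L05.InterPair

open Groth.L22.Inter Groth.L22.Nef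
open Groth.L05.FibreDecomp
open Groth.L00.Tensor (tensorIso tensorAssoc tensorComm tensorUnitRight tensorUnitLeft)

/-- The basic inequality for a symmetric matrix with non-negative off-diagonal entries and a positive vector
with non-positive image. -/
theorem quadratic_nonpos {ι : Type*} [Fintype ι] (M : ι → ι → ℚ) (hs : ∀ i j, M i j = M j i)
    (hoff : ∀ i j, i ≠ j → 0 ≤ M i j) (m : ι → ℚ) (hm : ∀ i, 0 < m i)
    (hrow : ∀ i, ∑ j, M i j * m j ≤ 0) (x : ι → ℚ) : ∑ i, ∑ j, x i * x j * M i j ≤ 0 := by
  classical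
  let y : ι → ℚ := fun i => x i / m i
  have hx : ∀ i, x i = m i * y i := fun i => (mul_div_cancel₀ _ (hm i).ne').symm
  have h1 : ∑ i, ∑ j, y i ^ 2 * m i * (M i j * m j) ≤ 0 := by
    refine Finset.sum_nonpos fun i _ => ?_
    rw [← Finset.mul_sum]
    exact mul_nonpos_of_nonneg_of_nonpos (mul_nonneg (sq_nonneg _) (hm i).le) (hrow i)
  have h2 : 0 ≤ ∑ i, ∑ j, M i j * m i * m j * (y i - y j) ^ 2 := by
    refine Finset.sum_nonneg fun i _ => Finset.sum_nonneg fun j _ => ?_
    rcases eq_or_ne i j with rfl | hne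
    · simp
    · exact mul_nonneg (mul_nonneg (mul_nonneg (hoff i j hne) (hm i).le) (hm j).le) (sq_nonneg _)
  have h3 : ∑ i, ∑ j, y j ^ 2 * m j * (M j i * m i) = ∑ i, ∑ j, y i ^ 2 * m i * (M i j * m j) := Finset.sum_comm
  have h4 : ∑ i, ∑ j, M i j * m i * m j * (y i - y j) ^ 2 =
      ∑ i, ∑ j, y i ^ 2 * m i * (M i j * m j) + ∑ i, ∑ j, y j ^ 2 * m j * (M j i * m i) -
        2 * ∑ i, ∑ j, x i * x j * M i j := by
    simp only [Finset.mul_sum, ← Finset.sum_add_distrib, ← Finset.sum_sub_distrib]
    refine Finset.sum_congr rfl fun i _ => Finset.sum_congr rfl fun j _ => ?_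
    rw [hx i, hx j, hs j i]
    ring
  linarith

variable {R : Type u} [CommRing R] [IsDomain R] [IsDiscreteValuationRing R]
  {X : Over (Spec (CommRingCat.of R))} [IsProper X.hom] [IsLocallyNoetherian X.left]

local notation "κ" => IsLocalRing.ResidueField R

/-- Vertical curves with the same ideal are isomorphic over the residue field. -/
theorem inter_congr_curve {Γ Γ' : ArSurf.VertComp R X} (h : Γ.ι.ker = Γ'.ι.ker) {L : X.left.Modules}
    (hL : PicF.IsInvertible L) : ArSurf.inter R X L Γ = ArSurf.inter R X L Γ' := by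
  haveI := isProper_curve Γ
  haveI := isProper_curve Γ'
  haveI := Groth.L21.RR.isNoetherian_of_proper (X := Γ.curve.left) κ
  haveI := Groth.L21.RR.isNoetherian_of_proper (X := Γ'.curve.left) κ
  haveI : Γ.curve.left.IsSeparated := ⟨by
    rw [← terminal.comp_from (Γ.curve.left ↘ Spec (CommRingCat.of κ))]; infer_instance⟩
  haveI := IsClosedImmersion.isIso_lift Γ.ι Γ'.ι h
  let θ := IsClosedImmersion.lift Γ.ι Γ'.ι h.le
  have hθ : θ ≫ Γ.ι = Γ'.ι := IsClosedImmersion.lift_fac _ _ _
  have hover : θ ≫ (Γ.curve.left ↘ Spec (CommRingCat.of κ)) = Γ'.curve.left ↘ Spec (CommRingCat.of κ) := by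
    haveI := isClosedImmersion_pt (R := R)
    rw [← cancel_mono (Spec.map (CommRingCat.ofHom (IsLocalRing.residue R)))]
    show (θ ≫ Γ.curve.hom) ≫ _ = Γ'.curve.hom ≫ _
    simp only [Category.assoc, ← Γ.w, ← Γ'.w]
    rw [← Category.assoc, hθ]
  haveI := Groth.L20.DescLocus.isIso_unitToPush θ (fun U => inferInstance)
  have hM : PicF.IsInvertible ((Scheme.Modules.pullback Γ.ι).obj L) := Groth.L18.Ample.isInvertible_pullback Γ.ι hL
  have h1 : altT κ (fun _ : Fin 1 => (Scheme.Modules.pullback Γ.ι).obj L) (Coh.structureModule Γ.curve.left) =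
      altT κ (fun _ : Fin 1 => (Scheme.Modules.pullback θ).obj ((Scheme.Modules.pullback Γ.ι).obj L))
        (Coh.structureModule Γ'.curve.left) := by
    rw [altT_iso κ _ (asIso (ClSub.unitToPush θ))]
    exact congrArg alt (funext fun n => twEuler_push κ θ hover (fun _ => hM) _
      (Groth.L16.CohClosedPush.isCoh_structure).1 n)
  rw [← curveDeg_eq_altT κ Γ.dim_eq, ← curveDeg_eq_altT κ Γ'.dim_eq] at h1
  have h2 : ArSurf.curveDeg κ Γ'.curve.left
      ((Scheme.Modules.pullback θ).obj ((Scheme.Modules.pullback Γ.ι).obj L)) = ArSurf.inter R X L Γ' :=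
    curveDeg_congr κ Γ'.dim_eq ((Scheme.Modules.pullbackComp θ Γ.ι).app L ≪≫
      (Scheme.Modules.pullbackCongr hθ).app L)
  exact (by exact_mod_cast h1 : _ = _).trans h2

theorem notMem_support_one {Z : Scheme.{u}} (x : Z) : x ∉ ((1 : Z.IdealSheafData).support : Set Z) := by
  show x ∉ ((⊤ : Z.IdealSheafData).support : Set Z)
  simp

variable [Flat X.hom] [IsIntegral X.left] (hreg : Models.IsRegularScheme X.left)
  (hdim : topologicalKrullDim X.left = 2)

include hreg hdim

theorem dim_genPtOf_of_surface (Γ : ArSurf.VertComp R X) :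
    ringKrullDim (X.left.presheaf.stalk (Models.genPtOf R X Γ)) = 1 := by
  set ξ := Models.genPtOf R X Γ
  refine le_antisymm ?_ ?_
  · obtain ⟨z, hz⟩ : ∃ z : Γ.curve.left, z ≠ genericPoint Γ.curve.left := by
      by_contra hall
      push Not at hall
      haveI : Subsingleton Γ.curve.left := ⟨fun a b => (hall a).trans (hall b).symm⟩
      have h0 : topologicalKrullDim Γ.curve.left ≤ 0 := by
        refine Order.krullDim_nonpos_iff_forall_isMax.2 fun A B hAB => ?_
        obtain ⟨a, ha⟩ := A.isIrreducible.1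
        exact fun b _ => (Subsingleton.elim b a) ▸ ha
      rw [Γ.dim_eq] at h0
      exact not_lt.2 h0 (by norm_num)
    have hne : ξ ≠ Γ.ι.base z := fun e => hz (Γ.ι.isClosedEmbedding.injective e.symm)
    have h1 := Groth.L22.CartierDecomp.succ_dim_le ((genericPoint_specializes z).map Γ.ι.continuous) hne
    have h2 : ringKrullDim (X.left.presheaf.stalk ξ) + 1 ≤ 2 :=
      h1.trans ((Groth.L15.CohFlat.ringKrullDim_stalk_le _).trans hdim.le)
    generalize ringKrullDim (X.left.presheaf.stalk ξ) = t at h2 ⊢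
    induction t using WithBot.recBotCoe with
    | bot => exact bot_le
    | coe t =>
      have h3 : t + 1 ≤ (2 : ℕ∞) := WithBot.coe_le_coe.1 h2
      induction t using ENat.recTopCoe with
      | top => simp at h3
      | coe m =>
        have : m + 1 ≤ 2 := by exact_mod_cast h3
        exact WithBot.coe_le_coe.2 (show (m : ℕ∞) ≤ 1 by exact_mod_cast (show m ≤ 1 by omega))
  · obtain ⟨ϖ, hϖ⟩ := IsDiscreteValuationRing.exists_irreducible R
    haveI := hreg ξ
    haveI := Groth.L01.isDomain_of_regular (X.left.presheaf.stalk ξ)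
    have hmem : ξ ∈ Models.specialFibreSet R X := by
      show X.hom.base (Γ.ι.base _) = IsLocalRing.closedPoint R
      rw [← Scheme.Hom.comp_apply, Γ.w, Scheme.Hom.comp_apply]
      refine PrimeSpectrum.ext ?_
      generalize Γ.curve.hom (genericPoint Γ.curve.left) = t
      show Ideal.comap (IsLocalRing.residue R) t.asIdeal = IsLocalRing.maximalIdeal R
      rw [(Ideal.eq_bot_or_top t.asIdeal).resolve_right t.2.ne_top]
      exact Ideal.mk_ker
    by_contra h
    haveI : Ring.KrullDimLE 0 (X.left.presheaf.stalk ξ) := Ring.krullDimLE_iff.2 (by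
      exact_mod_cast ENat.WithBot.lt_add_one_iff.1 (lt_of_lt_of_le (not_le.1 h) (by simp)))
    have hF : IsField (X.left.presheaf.stalk ξ) := Ring.KrullDimLE.isField_of_isDomain
    letI := hF.toField
    exact (mem_specialFibreSet.1 hmem) ϖ (by rw [hϖ.maximalIdeal_eq]; exact Ideal.mem_span_singleton_self ϖ)
      (isUnit_iff_ne_zero.2 (stalkHom_ne_zero ξ hϖ.ne_zero))

theorem isEffCartier_of_surface (Γ : ArSurf.VertComp R X) : BlowUp.IsEffCartierIdeal Γ.ι.ker := by
  haveI := isIntegral_subscheme_ker Γ
  refine Groth.Agent.S1684.result X.left _ ?_ fun x _ => ?_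
  · have h1 : IsGenericPoint (Γ.ι.ker.subschemeι (genericPoint ↥Γ.ι.ker.subscheme))
        (Γ.ι.ker.support : Set X.left) := by
      have h := (genericPoint_spec Γ.ι.ker.subscheme).image Γ.ι.ker.subschemeι.continuous
      rwa [Set.image_univ, Γ.ι.ker.range_subschemeι, Γ.ι.ker.support.isClosed.closure_eq] at h
    rw [h1.eq (isGenericPoint_genPtOf Γ)]
    exact dim_genPtOf_of_surface hreg hdim Γ
  · haveI := hreg x
    exact ⟨Groth.L01.isDomain_of_regular _, Groth.L10.RegUFD.isUFD _⟩

theorem eq_of_mem_support {Γ Γ' : ArSurf.VertComp R X}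
    (h : Models.genPtOf R X Γ ∈ (Γ'.ι.ker.support : Set X.left)) : Γ.ι.ker = Γ'.ι.ker := by
  have hs := (isGenericPoint_genPtOf Γ').specializes h
  have he : Models.genPtOf R X Γ' = Models.genPtOf R X Γ := by
    by_contra hne
    have h1 := Groth.L22.CartierDecomp.succ_dim_le hs hne
    rw [dim_genPtOf_of_surface hreg hdim, dim_genPtOf_of_surface hreg hdim] at h1
    exact absurd h1 (by decide)
  haveI := isIntegral_subscheme_ker Γ
  haveI := isIntegral_subscheme_ker Γ'
  refine le_antisymm ?_ (Groth.L22.CartierDecomp.le_of_generic_mem (isGenericPoint_genPtOf Γ) h)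
  exact Groth.L22.CartierDecomp.le_of_generic_mem (isGenericPoint_genPtOf Γ')
    (he ▸ (isGenericPoint_genPtOf Γ).mem)

theorem family_nonpos {r : ℕ} (Γ : Fin r → ArSurf.VertComp R X) (L : Fin r → X.left.Modules)
    (hL : ∀ j, ClSub.IsInverseOf (L j) (ClSub.idealMod (Γ j).ι.ker)) (a : Fin r → ℤ) :
    (∑ p : Fin r × Fin r, a p.1 * a p.2 * ArSurf.inter R X (L p.2) (Γ p.1)) ≤ 0 := by
  classical
  obtain ⟨ϖ, hϖ⟩ := IsDiscreteValuationRing.exists_irreducible R
  haveI : AlgebraicGeometry.IsNoetherian X.left := {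
    toIsLocallyNoetherian := inferInstance
    toCompactSpace := QuasiCompact.compactSpace_of_compactSpace X.hom }
  let key : Fin r → X.left.IdealSheafData := fun p => (Γ p).ι.ker
  let S := Set.range key
  haveI : Finite S := Set.finite_range key |>.to_subtype
  haveI := Fintype.ofFinite S
  let cls : Fin r → S := fun p => ⟨key p, p, rfl⟩
  choose rep hrep using fun s : S => s.2
  have hrep' : ∀ s, key (rep s) = s.1 := hrep
  have hD : ∀ s, BlowUp.IsEffCartierIdeal (key (rep s)) := fun s => isEffCartier_of_surface hreg hdim _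
  have hη : ∀ s t : S, s ≠ t →
      Models.genPtOf R X (Γ (rep s)) ∉ ((key (rep t)).support : Set X.left) := fun s t hst h =>
    hst (Subtype.ext (by rw [← hrep' s, ← hrep' t]; exact eq_of_mem_support hreg hdim h))
  let M : S → S → ℤ := fun s t => ArSurf.inter R X (L (rep t)) (Γ (rep s))
  have hM : ∀ p q, ArSurf.inter R X (L q) (Γ p) = M (cls p) (cls q) := fun p q => by
    have hq : key q = key (rep (cls q)) := (hrep' (cls q)).symm
    have hp : key p = key (rep (cls p)) := (hrep' (cls p)).symm
    obtain ⟨e₁⟩ := hL q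
    obtain ⟨e₂⟩ := hL (rep (cls q))
    have e₂' : CohB1.tensorMod (L (rep (cls q))) (ClSub.idealMod (Γ q).ι.ker) ≅ Coh.structureModule X.left :=
      eqToIso (by rw [show (Γ q).ι.ker = (Γ (rep (cls q))).ι.ker from hq]) ≪≫ e₂
    obtain ⟨i⟩ : Nonempty (L q ≅ L (rep (cls q))) :=
      ⟨(tensorUnitRight (L q)).symm ≪≫ tensorIso (Iso.refl _) e₂'.symm ≪≫
        tensorIso (Iso.refl _) (tensorComm _ _) ≪≫ (tensorAssoc _ _ _).symm ≪≫ tensorIso e₁ (Iso.refl _) ≪≫
        tensorUnitLeft _⟩
    rw [inter_congr _ i]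
    exact inter_congr_curve hp (isInvertible_of_cartier (hD (cls q)) (hL _))
  have hsymm : ∀ s t, M s t = M t s := fun s t => by
    rcases eq_or_ne s t with rfl | hst
    · rfl
    show ArSurf.inter R X (L (rep t)) (Γ (rep s)) = ArSurf.inter R X (L (rep s)) (Γ (rep t))
    rw [inter_eq_finrank (Γ (rep s)) (hD t) (hη s t hst) (hL _),
      inter_eq_finrank (Γ (rep t)) (hD s) (hη t s hst.symm) (hL _), finrank_comap_symm]
  have hoff : ∀ s t, s ≠ t → 0 ≤ M s t := fun s t hst => by
    show 0 ≤ ArSurf.inter R X (L (rep t)) (Γ (rep s))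
    rw [inter_eq_finrank (Γ (rep s)) (hD t) (hη s t hst) (hL _)]
    exact Int.natCast_nonneg _
  -- the decomposition of the special fibre
  haveI := fun s => isIntegral_subscheme_ker (Γ (rep s))
  obtain ⟨e, J, hJ, hJ'⟩ := Groth.L22.CartierDecomp.exists_decomp (fun s => key (rep s)) hD
    (fun s => isIntegral_subscheme_ker (Γ (rep s))) (Models.specialFibreIdeal R X) fun y hy h => by
      rw [support_specialFibreIdeal] at h
      have h0 := Groth.L22.CartierDecomp.dim_eq_zero_of_maximal hy
      haveI := hreg y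
      haveI := Groth.L01.isDomain_of_regular (X.left.presheaf.stalk y)
      haveI : Ring.KrullDimLE 0 (X.left.presheaf.stalk y) := Ring.krullDimLE_iff.2 (by simp [h0])
      letI := (Ring.KrullDimLE.isField_of_isDomain : IsField (X.left.presheaf.stalk y)).toField
      exact (mem_specialFibreSet.1 h) ϖ (by rw [hϖ.maximalIdeal_eq]; exact Ideal.mem_span_singleton_self ϖ)
        (isUnit_iff_ne_zero.2 (stalkHom_ne_zero y hϖ.ne_zero))
  rw [Finsupp.prod_fintype _ _ fun s => pow_zero _] at hJ
  have hfib : BlowUp.IsEffCartierIdeal (Models.specialFibreIdeal R X) := fun x => by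
    obtain ⟨_, ⟨W, hW, rfl⟩, hxW, -⟩ :=
      X.left.isBasis_affineOpens.exists_subset_of_mem_open (Set.mem_univ x) isOpen_univ
    refine Groth.L22.Div.exists_principal_nhd _ ⟨W, hW⟩ x hxW (Models.stalkHom R X x ϖ) ?_ ?_
    · rw [stalkIdeal_specialFibreIdeal, hϖ.maximalIdeal_eq, Ideal.map_span, Set.image_singleton]
    · haveI := hreg x
      haveI := Groth.L01.isDomain_of_regular (X.left.presheaf.stalk x)
      exact mem_nonZeroDivisors_of_ne_zero (stalkHom_ne_zero x hϖ.ne_zero)
  have hP := isEffCartier_prod Finset.univ fun s (_ : s ∈ Finset.univ) => isEffCartier_pow (hD s) (e s)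
  have hJc : BlowUp.IsEffCartierIdeal J :=
    Groth.L22.Ideals.isEffCartier_left_of_mul (J := ∏ s, key (rep s) ^ e s) (by rw [mul_comm, hJ]; exact hfib)
  have hepos : ∀ s, 0 < e s := fun s => by
    by_contra h0
    have hξ := isGenericPoint_genPtOf (Γ (rep s))
    have hmem : Models.genPtOf R X (Γ (rep s)) ∈ ((Models.specialFibreIdeal R X).support : Set X.left) := by
      rw [support_specialFibreIdeal, mem_specialFibreSet]
      intro c hc hu
      have hx : X.hom.base (Models.genPtOf R X (Γ (rep s))) = IsLocalRing.closedPoint R := by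
        show X.hom.base ((Γ (rep s)).ι.base _) = IsLocalRing.closedPoint R
        rw [← Scheme.Hom.comp_apply, (Γ (rep s)).w, Scheme.Hom.comp_apply]
        refine PrimeSpectrum.ext ?_
        generalize (Γ (rep s)).curve.hom (genericPoint (Γ (rep s)).curve.left) = t
        show Ideal.comap (IsLocalRing.residue R) t.asIdeal = IsLocalRing.maximalIdeal R
        rw [(Ideal.eq_bot_or_top t.asIdeal).resolve_right t.2.ne_top]
        exact Ideal.mk_ker
      exact mem_specialFibreSet.1 hx c hc hu
    rw [← hJ, Scheme.IdealSheafData.support_mul] at hmem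
    rcases hmem with hmem | hmem
    · have : ∀ (T : Finset S), Models.genPtOf R X (Γ (rep s)) ∉
          ((∏ t ∈ T, key (rep t) ^ e t).support : Set X.left) := by
        intro T
        induction T using Finset.induction_on with
        | empty =>
          rw [Finset.prod_empty]
          exact notMem_support_one _
        | insert t T ht ih =>
          rw [Finset.prod_insert ht, Scheme.IdealSheafData.support_mul]
          rintro (h1 | h1)
          · rcases Nat.eq_zero_or_pos (e t) with h2 | h2
            · rw [h2, pow_zero] at h1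
              exact notMem_support_one _ h1
            · rw [Scheme.IdealSheafData.support_pow _ _ h2.ne'] at h1
              refine hη s t (fun e' => ?_) h1
              subst e'
              exact h0 h2
          · exact ih h1
      exact this _ hmem
    · exact hJ' s _ hξ hmem
  have hrow : ∀ s, ∑ t, M s t * (e t : ℤ) ≤ 0 := fun s => by
    obtain ⟨θ⟩ := nonempty_iso_idealMod_fibre (X := X)
    have h0 : negDeg (Γ (rep s)) (Models.specialFibreIdeal R X) = 0 := by
      rw [negDeg, inter_congr _ θ, inter_unit]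
    rw [← hJ, negDeg_mul _ hP hJc, negDeg_prod _ _ fun t _ => isEffCartier_pow (hD t) _] at h0
    have hJn : negDeg (Γ (rep s)) J ≤ 0 := by
      obtain ⟨N, -, ⟨i⟩⟩ := Groth.L08.Cube.exists_inverse
        ((Groth.Agent.L19.IdealInvertible.isEffCartier_iff J).2 hJc)
      have hNJ : ClSub.IsInverseOf N (ClSub.idealMod J) := ⟨tensorComm _ _ ≪≫ i⟩
      have h1 := inter_eq_neg_negDeg (Γ (rep s)) hJc hNJ
      rw [inter_eq_finrank (Γ (rep s)) hJc (hJ' s _ (isGenericPoint_genPtOf _)) hNJ] at h1
      have h2 := Int.natCast_nonneg (Module.finrank κ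
        (Coh.HH (Γ (rep s)).curve.left (ClSub.quotMod (J.comap (Γ (rep s)).ι)) 0))
      linarith
    have h1 : ∑ t, M s t * (e t : ℤ) = -∑ t, negDeg (Γ (rep s)) (key (rep t) ^ e t) := by
      rw [← Finset.sum_neg_distrib]
      refine Finset.sum_congr rfl fun t _ => ?_
      rw [negDeg_pow _ (hD t)]
      show ArSurf.inter R X (L (rep t)) (Γ (rep s)) * _ = _
      rw [inter_eq_neg_negDeg _ (hD t) (hL _)]
      ring
    linarith
  -- collect the classes
  let x : S → ℤ := fun s => ∑ p ∈ Finset.univ.filter (fun p => cls p = s), a p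
  have hsum : ∑ p : Fin r × Fin r, a p.1 * a p.2 * ArSurf.inter R X (L p.2) (Γ p.1) =
      ∑ s, ∑ t, x s * x t * M s t := by
    have hx : ∀ g : S → ℤ, ∑ q, a q * g (cls q) = ∑ t, x t * g t := fun g => by
      rw [← Finset.sum_fiberwise (Finset.univ : Finset (Fin r)) cls fun q => a q * g (cls q)]
      refine Finset.sum_congr rfl fun t _ => ?_
      rw [Finset.sum_mul]
      exact Finset.sum_congr rfl fun q hq => by rw [(Finset.mem_filter.1 hq).2]
    calc ∑ p : Fin r × Fin r, a p.1 * a p.2 * ArSurf.inter R X (L p.2) (Γ p.1)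
        = ∑ p, a p * ∑ q, a q * M (cls p) (cls q) := by
          rw [Fintype.sum_prod_type]
          refine Finset.sum_congr rfl fun p _ => ?_
          rw [Finset.mul_sum]
          exact Finset.sum_congr rfl fun q _ => by rw [hM, mul_assoc]
      _ = ∑ p, a p * ∑ t, x t * M (cls p) t :=
          Finset.sum_congr rfl fun p _ => by rw [hx fun t => M (cls p) t]
      _ = ∑ s, x s * ∑ t, x t * M s t := hx fun s => ∑ t, x t * M s t
      _ = ∑ s, ∑ t, x s * x t * M s t :=
          Finset.sum_congr rfl fun s _ => by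
            rw [Finset.mul_sum]
            exact Finset.sum_congr rfl fun t _ => (mul_assoc _ _ _).symm
  rw [hsum]
  have hq := quadratic_nonpos (fun s t => ((M s t : ℤ) : ℚ)) (fun s t => by simp [hsymm s t])
    (fun s t h => by simpa using hoff s t h) (fun s => ((e s : ℕ) : ℚ)) (fun s => by exact_mod_cast hepos s)
    (fun s => by exact_mod_cast hrow s) (fun s => ((x s : ℤ) : ℚ))
  exact_mod_cast hq

end Groth.L05.InterPair
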