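import Groth.Agent.L05.InterPair.Classes

/-!
Applications of the class group of vertical divisors.
-/

set_option autoImplicit false
set_option backward.isDefEq.respectTransparency false
set_option linter.style.haveILetI false
set_option linter.unusedSectionVars false
universe u

open CategoryTheory CategoryTheory.Limits AlgebraicGeometry TopologicalSpace

noncomputable section

namespace Groth.L05.InterPair

open Groth.L05.FibreDecomp Groth.L08.Cube

attribute [local instance] Groth.L08.Cube.clMonoid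

variable {R : Type u} [CommRing R] [IsDomain R] [IsDiscreteValuationRing R]
  {X : Over (Spec (CommRingCat.of R))} [IsLocallyNoetherian X.left] [Flat X.hom] [IsProper X.hom]
  [IsIntegral X.left] {n : ℕ} {Γs : Fin n → ArSurf.VertComp R X} {L : Fin n → X.left.Modules} (S : Setup Γs L)
  (hn : 0 < n)

include S hn

theorem exists_pow_iff_prim {a : PicF.Cl X.left} {c : ℤ} (hc : a = ((S.Φ (prim Γs) ^ c : (PicF.Cl X.left)ˣ)).val)
    (k : ℕ) : a ^ k = 1 ↔ (Models.multGcd R X Γs : ℤ) ∣ c * k := by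
  rw [hc, ← Units.val_pow_eq_pow_val, Units.val_eq_one, ← zpow_natCast, ← zpow_mul, S.Φ_prim_pow_eq_one_iff hn]

variable {C : Scheme.{u}} [IsIntegral C] {f : C ⟶ Spec (CommRingCat.of (FractionRing R))} {g : C ⟶ X.left}
  (hg : IsPullback g f X.hom (Spec.map (CommRingCat.ofHom (algebraMap R (FractionRing R)))))

include hg

theorem tensorPow_gcd_trivial {M : X.left.Modules} (hM : PicF.IsInvertible M)
    (htriv : Nonempty ((Scheme.Modules.pullback g).obj M ≅ Coh.structureModule C))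
    (hdeg : ∀ i, ArSurf.inter R X M (Γs i) = 0) :
    Nonempty (CohB1.tensorPow M (Models.multGcd R X Γs) ≅ Coh.structureModule X.left) := by
  obtain ⟨c, hc⟩ := S.pow_gcd_trivial hg hn hM (cl_eq_one_iff.2 htriv) hdeg
  rw [← cl_eq_one_iff, cl_tensorPow, exists_pow_iff_prim S hn hc]
  exact Dvd.intro_left c rfl

theorem trivial_of_coprime {h : ℕ} (hh : 0 < h) (hcop : Nat.Coprime h (Models.multGcd R X Γs))
    {M : X.left.Modules} (hM : PicF.IsInvertible M)
    (htors : Nonempty (CohB1.tensorPow M h ≅ Coh.structureModule X.left))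
    (htriv : Nonempty ((Scheme.Modules.pullback g).obj M ≅ Coh.structureModule C)) :
    Nonempty (M ≅ Coh.structureModule X.left) := by
  have ht := cl_eq_one_iff.2 htors
  rw [cl_tensorPow] at ht
  obtain ⟨c, hc, hdvd⟩ := S.torsion_trivial hg hn hh hM ht (cl_eq_one_iff.2 htriv)
  rw [← cl_eq_one_iff, ← pow_one (PicF.cl M), exists_pow_iff_prim S hn hc, Nat.cast_one, mul_one]
  exact (Int.isCoprime_iff_nat_coprime.2 (by simpa using hcop.symm)).dvd_of_dvd_mul_right hdvd

theorem existsUnique_torsion {h : ℕ} (hh : 0 < h) {M : X.left.Modules} (hM : PicF.IsInvertible M)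
    (htors : Nonempty (CohB1.tensorPow M h ≅ Coh.structureModule X.left))
    (htriv : Nonempty ((Scheme.Modules.pullback g).obj M ≅ Coh.structureModule C)) :
    ∃! k : ℕ, k < Nat.gcd h (Models.multGcd R X Γs) ∧
      Nonempty (M ≅ FGA.multiTwist L (fun i => k * (Models.mult R X (Γs i) / Nat.gcd h (Models.multGcd R X Γs)))) := by
  have ht := cl_eq_one_iff.2 htors
  rw [cl_tensorPow] at ht
  obtain ⟨c, hc, hdvd⟩ := S.torsion_trivial hg hn hh hM ht (cl_eq_one_iff.2 htriv)
  set d := Models.multGcd R X Γs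
  set G := Nat.gcd h d
  have hd : 0 < d := S.multGcd_pos ⟨0, hn⟩
  have hG : 0 < G := Nat.gcd_pos_of_pos_left _ hh
  obtain ⟨d', hd'⟩ : G ∣ d := Nat.gcd_dvd_right h d
  have hd'0 : 0 < d' := Nat.pos_of_mul_pos_left (hd' ▸ hd)
  have key : ∀ k : ℕ, Nonempty (M ≅ FGA.multiTwist L (fun i => k * (Models.mult R X (Γs i) / G))) ↔
      (d : ℤ) ∣ c - (k : ℤ) * (d' : ℤ) := fun k => by
    have e : (fun i => ((k * (Models.mult R X (Γs i) / G) : ℕ) : ℤ)) = ((k : ℤ) * (d' : ℤ)) • prim Γs := by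
      funext i
      have h1 : d ∣ Models.mult R X (Γs i) := Finset.gcd_dvd (Finset.mem_univ i)
      obtain ⟨q, hq⟩ := h1
      show _ = (k : ℤ) * (d' : ℤ) * ((Models.mult R X (Γs i) / d : ℕ) : ℤ)
      rw [hq, Nat.mul_div_cancel_left q hd, hd', mul_assoc G d' q, Nat.mul_div_cancel_left _ hG]
      push_cast
      ring
    rw [← cl_eq_iff, ← S.val_Φ_nat, hc, Units.val_inj, e, S.Φ_zsmul, ← mul_inv_eq_one, ← zpow_neg, ← zpow_add,
      ← sub_eq_add_neg, S.Φ_prim_pow_eq_one_iff hn]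
  -- the exponent is a multiple of `d'`
  obtain ⟨c', hc'⟩ : (d' : ℤ) ∣ c := by
    obtain ⟨h', hh'⟩ : G ∣ h := Nat.gcd_dvd_left h d
    have hcop : Nat.Coprime d' h' := by
      have h2 : G = G * Nat.gcd h' d' := by
        conv_lhs => rw [show G = Nat.gcd h d from rfl, hh', hd', Nat.gcd_mul_left]
      have h3 : Nat.gcd h' d' = 1 := Nat.eq_of_mul_eq_mul_left hG (h2.symm.trans (mul_one G).symm)
      exact Nat.Coprime.symm h3
    have h4 : (d' : ℤ) ∣ c * (h' : ℤ) := by
      obtain ⟨q, hq⟩ := hdvd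
      refine ⟨q, ?_⟩
      rw [hh', hd'] at hq
      push_cast at hq
      refine mul_left_cancel₀ (show (G : ℤ) ≠ 0 by exact_mod_cast hG.ne') ?_
      linear_combination hq
    exact (Int.isCoprime_iff_nat_coprime.2 (by simpa using hcop)).dvd_of_dvd_mul_right h4
  have hiff : ∀ k : ℕ, Nonempty (M ≅ FGA.multiTwist L (fun i => k * (Models.mult R X (Γs i) / G))) ↔
      (G : ℤ) ∣ c' - (k : ℤ) := fun k => by
    rw [key, hc', hd', Nat.cast_mul, mul_comm (G : ℤ), mul_comm (k : ℤ), ← mul_sub,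
      mul_dvd_mul_iff_left (by exact_mod_cast hd'0.ne')]
  have hnn : 0 ≤ c' % (G : ℤ) := Int.emod_nonneg _ (by exact_mod_cast hG.ne')
  refine ⟨(c' % (G : ℤ)).toNat, ⟨?_, ?_⟩, fun k hk => ?_⟩
  · have := Int.emod_lt_of_pos c' (show (0 : ℤ) < G by exact_mod_cast hG)
    omega
  · rw [hiff, Int.toNat_of_nonneg hnn]
    exact Int.dvd_self_sub_emod
  · have h1 := (hiff k).1 hk.2
    have h2 : c' % (G : ℤ) = (k : ℤ) % G := Int.emod_eq_emod_iff_emod_sub_eq_zero.2 (Int.emod_eq_zero_of_dvd h1)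
    rw [Int.emod_eq_of_lt (a := (k : ℤ)) (by omega) (by exact_mod_cast hk.1)] at h2
    omega

theorem exists_torsion_lift_iff {h : ℕ} {N : C.Modules} {M : X.left.Modules} (hM : PicF.IsInvertible M)
    (hMN : Nonempty ((Scheme.Modules.pullback g).obj M ≅ N)) (a b : Fin n → ℕ)
    (hab : Nonempty (CohB1.tensorMod (CohB1.tensorPow M h) (FGA.multiTwist L a) ≅ FGA.multiTwist L b)) :
    (∃ M' : X.left.Modules, PicF.IsInvertible M' ∧ Nonempty (CohB1.tensorPow M' h ≅ Coh.structureModule X.left) ∧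
        Nonempty ((Scheme.Modules.pullback g).obj M' ≅ N)) ↔
      ∃ (c : Fin n → ℤ) (e : ℤ), ∀ i, ((b i : ℤ) - (a i : ℤ)) = (h : ℤ) * c i + e * (Models.mult R X (Γs i) : ℤ) := by
  let za : Fin n → ℤ := fun i => (a i : ℤ)
  let zb : Fin n → ℤ := fun i => (b i : ℤ)
  have hMh : PicF.cl M ^ h = (S.Φ (zb - za)).val := by
    have h1 := cl_eq_iff.2 hab
    rw [cl_tensor', cl_tensorPow, ← S.val_Φ_nat, ← S.val_Φ_nat] at h1
    rw [sub_eq_add_neg, S.Φ_add, S.Φ_neg, Units.val_mul, ← h1, mul_assoc, Units.mul_inv, mul_one]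
  have hN : PicF.pullCl g (PicF.cl M) = PicF.cl N := cl_eq_iff.2 hMN
  constructor
  · rintro ⟨M', hM', htors, hpb⟩
    have hN' : PicF.pullCl g (PicF.cl M') = PicF.cl N := cl_eq_iff.2 hpb
    obtain ⟨z, hz⟩ := S.exists_eq_mul_Φ hg hM hM' (hN'.trans hN.symm)
    have h1 := cl_eq_one_iff.2 htors
    rw [cl_tensorPow, hz, mul_pow, hMh, ← Units.val_pow_eq_pow_val, ← Units.val_mul, ← S.Φ_nsmul, ← S.Φ_add,
      Units.val_eq_one, S.Φ_eq_one_iff] at h1
    obtain ⟨e, he⟩ := h1
    refine ⟨fun i => - z i, e, fun i => ?_⟩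
    have := he i
    simp only [Pi.add_apply, Pi.sub_apply, Pi.smul_apply, smul_eq_mul, za, zb] at this
    linarith
  · rintro ⟨c, e, he⟩
    obtain ⟨P, hP, hPc⟩ := S.exists_rep (-c)
    refine ⟨CohB1.tensorMod M P, Groth.L18.GenLoc.isInvertible_tensor hM hP, cl_eq_one_iff.1 ?_, cl_eq_iff.1 ?_⟩
    · rw [cl_tensorPow, cl_tensor', hPc, mul_pow, hMh, ← Units.val_pow_eq_pow_val, ← Units.val_mul, ← S.Φ_nsmul,
        ← S.Φ_add, Units.val_eq_one, S.Φ_eq_one_iff]
      refine ⟨e, fun i => ?_⟩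
      have := he i
      simp only [Pi.add_apply, Pi.sub_apply, Pi.smul_apply, smul_eq_mul, za, zb, Pi.neg_apply]
      linarith
    · show PicF.pullCl g (PicF.cl (CohB1.tensorMod M P)) = PicF.cl N
      rw [cl_tensor', pullCl_mul, hPc, S.pullCl_Φ hg, mul_one, hN]

theorem exists_degree_zero_lift_iff {N : C.Modules} {M : X.left.Modules} (hM : PicF.IsInvertible M)
    (hMN : Nonempty ((Scheme.Modules.pullback g).obj M ≅ N)) :
    (∃ v : Fin n → ℤ, ∀ i, ArSurf.inter R X M (Γs i) = ∑ j, ArSurf.inter R X (L j) (Γs i) * v j) ↔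
      ∃ M' : X.left.Modules, PicF.IsInvertible M' ∧ Nonempty ((Scheme.Modules.pullback g).obj M' ≅ N) ∧
        ∀ i, ArSurf.inter R X M' (Γs i) = 0 := by
  have hN : PicF.pullCl g (PicF.cl M) = PicF.cl N := cl_eq_iff.2 hMN
  have hdeg : ∀ {A : X.left.Modules} (_ : PicF.IsInvertible A) {z : Fin n → ℤ}
      (_ : PicF.cl A = PicF.cl M * (S.Φ z).val) (i : Fin n),
      ArSurf.inter R X A (Γs i) = ArSurf.inter R X M (Γs i) + ∑ j, z j * ArSurf.inter R X (L j) (Γs i) :=
    fun {A} hA {z} hz i => by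
      obtain ⟨P, hP, hPc⟩ := S.exists_rep z
      obtain ⟨eA⟩ := cl_eq_iff.1 (show PicF.cl A = PicF.cl (CohB1.tensorMod M P) by rw [cl_tensor', hPc, hz])
      rw [inter_congr _ eA, inter_tensor _ hM hP, S.inter_of_cl hP hPc]
  constructor
  · rintro ⟨v, hv⟩
    obtain ⟨P, hP, hPc⟩ := S.exists_rep (-v)
    refine ⟨CohB1.tensorMod M P, Groth.L18.GenLoc.isInvertible_tensor hM hP, cl_eq_iff.1 ?_, fun i => ?_⟩
    · show PicF.pullCl g (PicF.cl (CohB1.tensorMod M P)) = PicF.cl N
      rw [cl_tensor', pullCl_mul, hPc, S.pullCl_Φ hg, mul_one, hN]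
    · rw [hdeg (Groth.L18.GenLoc.isInvertible_tensor hM hP) (by rw [cl_tensor', hPc]) i, hv,
        ← Finset.sum_add_distrib]
      exact Finset.sum_eq_zero fun j _ => by rw [Pi.neg_apply]; ring
  · rintro ⟨M', hM', hpb, h0⟩
    obtain ⟨z, hz⟩ := S.exists_eq_mul_Φ hg hM hM' ((cl_eq_iff.2 hpb : PicF.pullCl g (PicF.cl M') = PicF.cl N).trans hN.symm)
    refine ⟨fun j => - z j, fun i => ?_⟩
    have := hdeg hM' hz i
    rw [h0] at this
    rw [eq_comm, ← sub_eq_zero]
    refine Eq.trans ?_ (neg_eq_zero.2 this.symm)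
    rw [neg_add, ← Finset.sum_neg_distrib]
    rw [sub_eq_add_neg, add_comm]
    congr 1
    exact Finset.sum_congr rfl fun j _ => by ring

theorem exists_torsion_lift {h : ℕ} (hh : 0 < h) (hcop : Nat.Coprime h (Models.multGcd R X Γs))
    {N : C.Modules} (hNt : Nonempty (CohB1.tensorPow N h ≅ Coh.structureModule C))
    {M : X.left.Modules} (hM : PicF.IsInvertible M) (hMN : Nonempty ((Scheme.Modules.pullback g).obj M ≅ N))
    (v : Fin n → ℤ) (hv : ∀ i, ArSurf.inter R X M (Γs i) = ∑ j, ArSurf.inter R X (L j) (Γs i) * v j) :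
    ∃ M' : X.left.Modules, PicF.IsInvertible M' ∧ Nonempty (CohB1.tensorPow M' h ≅ Coh.structureModule X.left) ∧
      Nonempty ((Scheme.Modules.pullback g).obj M' ≅ N) := by
  obtain ⟨M₁, hM₁, hpb, h0⟩ := (exists_degree_zero_lift_iff S hn hg hM hMN).1 ⟨v, hv⟩
  have hN₁ : PicF.pullCl g (PicF.cl M₁) = PicF.cl N := cl_eq_iff.2 hpb
  have hpow : PicF.pullCl g (PicF.cl (CohB1.tensorPow M₁ h)) = 1 := by
    rw [cl_tensorPow, show PicF.pullCl g (PicF.cl M₁ ^ h) = PicF.pullCl g (PicF.cl M₁) ^ h from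
      map_pow (pullClHom g) _ _, hN₁, ← cl_tensorPow]
    exact cl_eq_one_iff.2 hNt
  obtain ⟨c, hc⟩ := S.pow_gcd_trivial hg hn (isInvertible_of_pow hM₁ h) hpow fun i => by
    rw [S.inter_tensorPow hM₁, h0, mul_zero]
  rw [cl_tensorPow] at hc
  obtain ⟨x, y, hxy⟩ := Int.isCoprime_iff_nat_coprime.2
    (show Nat.Coprime (h : ℤ).natAbs (Models.multGcd R X Γs : ℤ).natAbs by simpa using hcop)
  obtain ⟨P, hP, hPc⟩ := S.exists_rep ((-(c * x)) • prim Γs)
  refine ⟨CohB1.tensorMod M₁ P, Groth.L18.GenLoc.isInvertible_tensor hM₁ hP, cl_eq_one_iff.1 ?_, cl_eq_iff.1 ?_⟩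
  · rw [cl_tensorPow, cl_tensor', hPc, S.Φ_zsmul, mul_pow, hc, ← Units.val_pow_eq_pow_val, ← Units.val_mul,
      Units.val_eq_one, ← zpow_natCast, ← zpow_mul, ← zpow_add, S.Φ_prim_pow_eq_one_iff hn]
    exact ⟨c * y, by linear_combination -c * hxy⟩
  · show PicF.pullCl g (PicF.cl (CohB1.tensorMod M₁ P)) = PicF.cl N
    rw [cl_tensor', pullCl_mul, hPc, S.pullCl_Φ hg, mul_one, hN₁]

end Groth.L05.InterPair

namespace Groth.L05.InterPair

open Groth.L05.FibreDecomp Groth.L08.Cube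

attribute [local instance] Groth.L08.Cube.clMonoid

variable {R : Type u} [CommRing R] [IsDomain R] [IsDiscreteValuationRing R]
  {X : Over (Spec (CommRingCat.of R))} [IsLocallyNoetherian X.left] [Flat X.hom] [IsProper X.hom]
  [IsIntegral X.left] {n : ℕ} {Γs : Fin n → ArSurf.VertComp R X}

/-- Inverses of the component ideals exist. -/
theorem exists_inverses (hreg : Models.IsRegularScheme X.left) (hΓ : Models.IsComponentList R X Γs) :
    ∃ L : Fin n → X.left.Modules, ∀ i, ClSub.IsInverseOf (L i) (ClSub.idealMod (Γs i).ι.ker) := by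
  choose L hL using fun i => Groth.L08.Cube.exists_inverse
    ((Groth.Agent.L19.IdealInvertible.isEffCartier_iff _).2 (isEffCartier hreg hΓ i))
  exact ⟨L, fun i => (hL i).2.map fun e => Groth.L00.Tensor.tensorComm _ _ ≪≫ e⟩

theorem pow_gcd_inverse_prim {L : Fin n → X.left.Modules} (S : Setup Γs L) (hn : 0 < n) {N : X.left.Modules}
    (hN : ClSub.IsInverseOf N (ClSub.idealMod
      (∏ i, (Γs i).ι.ker ^ (Models.mult R X (Γs i) / Models.multGcd R X Γs)))) :
    Nonempty (CohB1.tensorPow N (Models.multGcd R X Γs) ≅ Coh.structureModule X.left) ∧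
      Nonempty (CohB1.tensorPow ((Scheme.Modules.pullback
          (∏ i, (Γs i).ι.ker ^ (Models.mult R X (Γs i) / Models.multGcd R X Γs)).subschemeι).obj
          (ClSub.idealMod (∏ i, (Γs i).ι.ker ^ (Models.mult R X (Γs i) / Models.multGcd R X Γs))))
          (Models.multGcd R X Γs) ≅
        Coh.structureModule (∏ i, (Γs i).ι.ker ^ (Models.mult R X (Γs i) / Models.multGcd R X Γs)).subscheme) := by
  set I := ∏ i, (Γs i).ι.ker ^ (Models.mult R X (Γs i) / Models.multGcd R X Γs) with hI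
  have hNI : PicF.cl N * PicF.cl (ClSub.idealMod I) = 1 := by
    rw [← cl_tensor']; exact cl_eq_one_iff.2 hN
  have h1 := isInverseOf_multiTwist (isEffCartier S.hreg S.hΓ) S.hL
    fun i => Models.mult R X (Γs i) / Models.multGcd R X Γs
  rw [← hI] at h1
  have hTI : PicF.cl (FGA.multiTwist L fun i => Models.mult R X (Γs i) / Models.multGcd R X Γs) *
      PicF.cl (ClSub.idealMod I) = 1 := by rw [← cl_tensor']; exact cl_eq_one_iff.2 h1
  have hN' : PicF.cl N = ((S.Φ (prim Γs) ^ (1 : ℤ) : (PicF.Cl X.left)ˣ)).val := by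
    rw [zpow_one, show prim Γs = fun i => ((Models.mult R X (Γs i) / Models.multGcd R X Γs : ℕ) : ℤ) from rfl,
      S.val_Φ_nat]
    calc PicF.cl N = PicF.cl N * (PicF.cl (FGA.multiTwist L fun i => Models.mult R X (Γs i) / Models.multGcd R X Γs) *
          PicF.cl (ClSub.idealMod I)) := by rw [hTI, mul_one]
      _ = _ := by rw [← mul_assoc, mul_comm (PicF.cl N), mul_assoc, hNI, mul_one]
  have hpow : PicF.cl N ^ Models.multGcd R X Γs = 1 := by
    rw [exists_pow_iff_prim S hn hN', one_mul]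
  refine ⟨cl_eq_one_iff.1 (by rw [cl_tensorPow, hpow]), cl_eq_one_iff.1 ?_⟩
  have h2 : PicF.cl (ClSub.idealMod I) ^ Models.multGcd R X Γs = 1 := by
    have := congrArg (fun t => t ^ Models.multGcd R X Γs) hNI
    simpa [mul_pow, hpow] using this
  rw [cl_tensorPow]
  show PicF.pullCl I.subschemeι (PicF.cl (ClSub.idealMod I)) ^ _ = 1
  rw [show PicF.pullCl I.subschemeι (PicF.cl (ClSub.idealMod I)) ^ Models.multGcd R X Γs =
    PicF.pullCl I.subschemeι (PicF.cl (ClSub.idealMod I) ^ Models.multGcd R X Γs) from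
      (map_pow (pullClHom I.subschemeι) (PicF.cl (ClSub.idealMod I)) (Models.multGcd R X Γs)).symm,
    h2, Groth.L08.Cube.pullCl_one]

theorem pos_of_connected {C Y : Scheme.{u}} (f : C ⟶ Spec (CommRingCat.of (FractionRing R)))
    (p : Y ⟶ Spec (CommRingCat.of R)) (hC : Curve.IsSmoothProperCurve (FractionRing R) C f)
    (hH0 : IsIso f.appTop) (hX : Models.IsRegularProperModel R Y p C f) {m : ℕ}
    {Γ : Fin m → ArSurf.VertComp R (Over.mk p)} (hΓ : Models.IsComponentList R (Over.mk p) Γ) : 0 < m := by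
  haveI : ConnectedSpace ↥(Models.specialFibre R Y p) := Groth.Agent.S2209.result R C Y f p hC hH0 hX
  obtain ⟨z⟩ := (inferInstance : Nonempty ↥(Models.specialFibre R Y p))
  let j : Spec (CommRingCat.of (IsLocalRing.ResidueField R)) ⟶ Spec (CommRingCat.of R) :=
    Spec.map (CommRingCat.ofHom (algebraMap R (IsLocalRing.ResidueField R)))
  have hy : pullback.fst p j z ∈ Models.specialFibreSet R (Over.mk p) := by
    show p (pullback.fst p j z) = IsLocalRing.closedPoint R
    rw [← Scheme.Hom.comp_apply, pullback.condition, Scheme.Hom.comp_apply]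
    refine PrimeSpectrum.ext ?_
    generalize pullback.snd p j z = t
    show Ideal.comap (algebraMap R (IsLocalRing.ResidueField R)) t.asIdeal = IsLocalRing.maximalIdeal R
    rw [(Ideal.eq_bot_or_top t.asIdeal).resolve_right t.2.ne_top]
    exact Ideal.mk_ker
  obtain ⟨i, -⟩ := exists_component hΓ hy
  exact Fin.pos i

end Groth.L05.InterPair
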