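import Groth.Agent.L05.InterPair.Twist
import Groth.Agent.L18.GenLocus
import Mathlib.AlgebraicGeometry.OpenImmersion

/-!
Invertible modules trivial on the generic fibre come from the components of the special fibre.
-/

set_option autoImplicit false
set_option backward.isDefEq.respectTransparency false
set_option linter.style.haveILetI false
set_option linter.unusedSectionVars false
universe u

open CategoryTheory CategoryTheory.Limits AlgebraicGeometry TopologicalSpace

noncomputable section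

namespace Groth.L05.InterPair

open Groth.L05.FibreDecomp
open Groth.L18.Frame (rs ro rs_rs rs_self rs_smul ro_ro ro_self ro_mul IsFrame)
open Groth.L18.GenLoc (secOf genLocus_inf_eq)
open Groth.L00.Tensor (tensorIso tensorAssoc tensorComm tensorUnitRight tensorUnitLeft)

theorem isOpenImmersion_generic (R : Type u) [CommRing R] [IsDomain R] [IsDiscreteValuationRing R] {ϖ : R}
    (hϖ : Irreducible ϖ) :
    IsOpenImmersion (Spec.map (CommRingCat.ofHom (algebraMap R (FractionRing R)))) ∧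
      Set.range (Spec.map (CommRingCat.ofHom (algebraMap R (FractionRing R)))) =
        (PrimeSpectrum.basicOpen ϖ : Set (PrimeSpectrum R)) := by
  haveI : IsLocalization.Away ϖ (FractionRing R) := by
    refine { map_units := ?_, surj := fun z => ?_, exists_of_eq := fun {a b} hab => ⟨1, ?_⟩ }
    · rintro ⟨_, n, rfl⟩
      exact isUnit_iff_ne_zero.2 fun h0 => pow_ne_zero n hϖ.ne_zero
        (IsFractionRing.injective R (FractionRing R) (h0.trans (map_zero _).symm))
    · obtain ⟨⟨a, b, hb⟩, h⟩ := IsLocalization.surj (nonZeroDivisors R) z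
      obtain ⟨n, v, rfl⟩ := IsDiscreteValuationRing.eq_unit_mul_pow_irreducible (nonZeroDivisors.ne_zero hb) hϖ
      refine ⟨(a * (↑v⁻¹ : R), ⟨ϖ ^ n, n, rfl⟩), ?_⟩
      simp only [map_mul] at h ⊢
      rw [← h, mul_assoc, mul_comm (algebraMap R (FractionRing R) (v : R)), mul_assoc, ← map_mul, Units.mul_inv,
        map_one, mul_one]
    · rw [IsFractionRing.injective R (FractionRing R) hab]
  exact ⟨IsOpenImmersion.of_isLocalization ϖ, PrimeSpectrum.localization_away_comap_range (FractionRing R) ϖ⟩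

/-- A frame over a basic open of a global function, multiplied by a power of the function, extends. -/
theorem exists_section_extend {Z : Scheme.{u}} [IsIntegral Z] [CompactSpace Z] {M : Z.Modules}
    (hM : PicF.IsInvertible M) (P : Γ(Z, ⊤)) (hU : (Z.basicOpen P : Set Z).Nonempty)
    {σ : Γ(M, Z.basicOpen P)} (hσ : IsFrame M (Z.basicOpen P) σ) :
    ∃ (N : ℕ) (t : Γ(M, ⊤)), rs M le_top t = ro (le_top : Z.basicOpen P ≤ ⊤) (P ^ N) • σ := by
  classical
  let U := Z.basicOpen P
  choose W ε hWaff hxW hε using fun x : Z => Groth.L18.GenLoc.exists_affine_frame hM x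
  obtain ⟨S, hS⟩ := isCompact_univ.elim_finite_subcover (fun x : Z => (W x : Set Z)) (fun x => (W x).2)
    fun x _ => Set.mem_iUnion.2 ⟨x, hxW x⟩
  have hUW : ∀ x : Z, U ⊓ W x = Z.basicOpen (ro (le_top : W x ≤ ⊤) P) := fun x => by
    rw [show Z.basicOpen (ro (le_top : W x ≤ ⊤) P) = W x ⊓ Z.basicOpen P from Scheme.basicOpen_res _ _ _,
      inf_comm]
  choose c hc using fun x => (hε x).exists_coeff (inf_le_right : U ⊓ W x ≤ W x) (rs M inf_le_left σ)
  have hcl : ∀ x, ∃ (n : ℕ) (b : Γ(Z, W x)),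
      ro (le_top : U ⊓ W x ≤ ⊤) (P ^ n) * c x = ro (inf_le_right : U ⊓ W x ≤ W x) b := fun x => by
    have key : ∀ (O : Z.Opens) (hO : O = Z.basicOpen (ro (le_top : W x ≤ ⊤) P)) (hle : O ≤ W x) (d : Γ(Z, O)),
        ∃ (n : ℕ) (b : Γ(Z, W x)), ro (le_top : O ≤ ⊤) (P ^ n) * d = ro hle b := by
      intro O hO hle d
      subst hO
      haveI := (hWaff x).isLocalization_basicOpen (ro (le_top : W x ≤ ⊤) P)
      obtain ⟨n, b, hb⟩ := IsLocalization.Away.surj (ro (le_top : W x ≤ ⊤) P) d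
      refine ⟨n, b, ?_⟩
      have e : algebraMap Γ(Z, W x) Γ(Z, Z.basicOpen (ro (le_top : W x ≤ ⊤) P)) (ro (le_top : W x ≤ ⊤) P) ^ n =
          ro (le_top : Z.basicOpen (ro (le_top : W x ≤ ⊤) P) ≤ ⊤) (P ^ n) := by
        rw [← map_pow]
        show ro hle (ro le_top P ^ n) = _
        rw [show ro (le_top : W x ≤ ⊤) P ^ n = ro le_top (P ^ n) from (map_pow _ _ _).symm, ro_ro]
      rw [← e, mul_comm]
      exact hb
    exact key _ (hUW x) inf_le_right (c x)
  choose n b hb using hcl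
  let N := S.sup n
  let b' : Z → Γ(Z, ⊤) := fun x => P ^ (N - n x)
  have hb' : ∀ x ∈ S, ro (le_top : U ⊓ W x ≤ ⊤) (P ^ N) * c x =
      ro (inf_le_right : U ⊓ W x ≤ W x) (ro le_top (b' x) * b x) := fun x hx => by
    rw [ro_mul, ro_ro, ← hb x, ← mul_assoc, ← ro_mul]
    congr 2
    rw [← pow_add]
    congr 1
    have : n x ≤ N := Finset.le_sup (f := n) hx
    omega
  let t : S → (x : S) → Γ(M, W x.1) := fun _ x => (ro le_top (b' x.1) * b x.1) • ε x.1
  let t : (x : S) → Γ(M, W x.1) := fun x => (ro le_top (b' x.1) * b x.1) • ε x.1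
  have ht : ∀ x : S, rs M (inf_le_right : U ⊓ W x.1 ≤ W x.1) (t x) =
      rs M (inf_le_left : U ⊓ W x.1 ≤ U) (ro (le_top : U ≤ ⊤) (P ^ N) • σ) := fun x => by
    rw [rs_smul, rs_smul, ro_ro, ← hb' x.1 x.2, mul_smul, hc x.1]
  have hη : ∀ {V : Z.Opens}, (V : Set Z).Nonempty → genericPoint Z ∈ V := fun {V} hV =>
    (genericPoint_spec Z).mem_open_set_iff V.2 |>.2 (by simpa using hV)
  have hcompat : TopCat.Presheaf.IsCompatible (X := Z.toTopCat) M.presheaf (fun x : S => W x.1) t := fun x y => by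
    show rs M (inf_le_left : W x.1 ⊓ W y.1 ≤ W x.1) (t x) = rs M (inf_le_right : W x.1 ⊓ W y.1 ≤ W y.1) (t y)
    have hF := (hε x.1).mono (inf_le_left : W x.1 ⊓ W y.1 ≤ W x.1)
    obtain ⟨p, hp⟩ := hF.exists_coeff le_rfl (rs M (inf_le_left : W x.1 ⊓ W y.1 ≤ W x.1) (t x))
    obtain ⟨q, hq⟩ := hF.exists_coeff le_rfl (rs M (inf_le_right : W x.1 ⊓ W y.1 ≤ W y.1) (t y))
    rw [rs_self] at hp hq
    rw [← hp, ← hq]
    haveI : Nonempty (U ⊓ (W x.1 ⊓ W y.1) : Z.Opens) := ⟨⟨genericPoint Z,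
      hη hU, hη ⟨x.1, hxW x.1⟩, hη ⟨y.1, hxW y.1⟩⟩⟩
    have hpq : ro (inf_le_right : U ⊓ (W x.1 ⊓ W y.1) ≤ W x.1 ⊓ W y.1) p = ro inf_le_right q := by
      refine hF.inj inf_le_right ?_
      rw [← rs_smul, ← rs_smul, hp, hq, rs_rs, rs_rs]
      have e1 := congrArg (rs M (le_inf inf_le_left (inf_le_right.trans inf_le_left) :
        U ⊓ (W x.1 ⊓ W y.1) ≤ U ⊓ W x.1)) (ht x)
      have e2 := congrArg (rs M (le_inf inf_le_left (inf_le_right.trans inf_le_right) :
        U ⊓ (W x.1 ⊓ W y.1) ≤ U ⊓ W y.1)) (ht y)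
      rw [rs_rs, rs_rs] at e1 e2
      rw [e1, e2]
    rw [map_injective_of_isIntegral Z (homOfLE (inf_le_right : U ⊓ (W x.1 ⊓ W y.1) ≤ W x.1 ⊓ W y.1)) hpq]
  have hcov : ∀ z : Z, ∃ x : S, z ∈ W x.1 := fun z => by
    obtain ⟨x, hx, hz⟩ := Set.mem_iUnion₂.1 (hS (Set.mem_univ z))
    exact ⟨⟨x, hx⟩, hz⟩
  let OM : TopCat.Sheaf Ab.{u} Z.toTopCat := ⟨M.presheaf, M.isSheaf⟩
  obtain ⟨g, hg, -⟩ := TopCat.Sheaf.existsUnique_gluing' OM (fun x : S => W x.1) ⊤ (fun x => homOfLE le_top)
    (fun z _ => Opens.mem_iSup.2 (hcov z)) t hcompat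
  refine ⟨N, g, OM.eq_of_locally_eq' (fun x : S => U ⊓ W x.1) U (fun x => homOfLE inf_le_left)
    (fun z hz => by obtain ⟨x, hx⟩ := hcov z; exact Opens.mem_iSup.2 ⟨x, hz, hx⟩) _ _ fun x => ?_⟩
  show rs M inf_le_left (rs M le_top g) = rs M inf_le_left _
  rw [rs_rs, ← ht x, show t x = rs M (le_top : W x.1 ≤ ⊤) g from (hg x).symm, rs_rs]

variable {R : Type u} [CommRing R] [IsDomain R] [IsDiscreteValuationRing R]
  {X : Over (Spec (CommRingCat.of R))} [IsLocallyNoetherian X.left] [Flat X.hom] [IsProper X.hom]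
  [IsIntegral X.left] (hreg : Models.IsRegularScheme X.left) {n : ℕ} {Γs : Fin n → ArSurf.VertComp R X}
  (hΓ : Models.IsComponentList R X Γs)

include hreg hΓ

/-- A divisor supported on the special fibre is a sum of components. -/
theorem exists_eq_div {I : X.left.IdealSheafData} (hI : BlowUp.IsEffCartierIdeal I)
    (hsupp : (I.support : Set X.left) ⊆ Models.specialFibreSet R X) : ∃ e : Fin n → ℕ, I = div Γs e := by
  classical
  obtain ⟨ϖ, hϖ⟩ := IsDiscreteValuationRing.exists_irreducible R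
  haveI : AlgebraicGeometry.IsNoetherian X.left := {
    toIsLocallyNoetherian := inferInstance
    toCompactSpace := QuasiCompact.compactSpace_of_compactSpace X.hom }
  have hD := isEffCartier hreg hΓ
  haveI := fun i => isIntegral_subscheme_ker (Γs i)
  obtain ⟨a, J, hJ, hJ'⟩ := Groth.L22.CartierDecomp.exists_decomp (fun i => (Γs i).ι.ker) hD
    (fun i => isIntegral_subscheme_ker (Γs i)) I fun y hy h =>
      Groth.L22.notMem_support_of_maximal hI hy h
  rw [Finsupp.prod_fintype _ _ fun i => pow_zero _] at hJ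
  refine ⟨fun i => a i, ?_⟩
  have hJc : BlowUp.IsEffCartierIdeal J :=
    Groth.L22.Ideals.isEffCartier_left_of_mul (J := ∏ i, (Γs i).ι.ker ^ a i) (by rw [mul_comm, hJ]; exact hI)
  have hJsupp : ∀ z, z ∉ (J.support : Set X.left) := fun z hz => by
    obtain ⟨y, hy, -, hmax⟩ := Groth.L22.CartierDecomp.exists_maximal_of_mem J.support.isClosed hz
    have hyI : y ∈ Models.specialFibreSet R X := hsupp (by
      rw [← hJ, Scheme.IdealSheafData.support_mul]; exact Or.inr hy)
    obtain ⟨i, hi⟩ := exists_component hΓ hyI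
    rw [← support_ker] at hi
    have hne : ∀ ξ, IsGenericPoint ξ ((Γs i).ι.ker.support : Set X.left) → y ≠ ξ :=
      fun ξ hξ e => hJ' i ξ hξ (e ▸ hy)
    have h2 := Groth.L22.CartierDecomp.two_le_dim (hD i) hi hne
    have h1 := Groth.L22.LocalDim.dim_le_one_of_locPrincipal (D := J) (fun x _ => by
      obtain ⟨U, hxU, f, -, hf⟩ := hJc x; exact ⟨U, hxU, f, hf⟩) hy hmax
    exact absurd (h2.trans h1) (by decide)
  have hJ1 : J = 1 := by
    refine Scheme.IdealSheafData.ext (funext fun U => ?_)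
    rw [Groth.L22.CartierDecomp.ideal_eq_top fun z _ => hJsupp z]
    symm
    exact Groth.L22.CartierDecomp.ideal_eq_top fun z _ => by
      show z ∉ ((⊤ : X.left.IdealSheafData).support : Set X.left)
      simp
  rw [← hJ, hJ1, mul_one]
  rfl

theorem exists_twist_of_trivial_generic {L : Fin n → X.left.Modules}
    (hL : ∀ i, ClSub.IsInverseOf (L i) (ClSub.idealMod (Γs i).ι.ker))
    {C : Scheme.{u}} [Nonempty C] {f : C ⟶ Spec (CommRingCat.of (FractionRing R))} {g : C ⟶ X.left}
    (hg : IsPullback g f X.hom (Spec.map (CommRingCat.ofHom (algebraMap R (FractionRing R)))))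
    {M : X.left.Modules} (hM : PicF.IsInvertible M)
    (htriv : Nonempty ((Scheme.Modules.pullback g).obj M ≅ Coh.structureModule C)) :
    ∃ a b : Fin n → ℕ, Nonempty (CohB1.tensorMod M (FGA.multiTwist L a) ≅ FGA.multiTwist L b) := by
  obtain ⟨ϖ, hϖ⟩ := IsDiscreteValuationRing.exists_irreducible R
  obtain ⟨hj, hjrange⟩ := isOpenImmersion_generic R hϖ
  haveI := hj
  haveI : IsOpenImmersion g := MorphismProperty.of_isPullback (P := @IsOpenImmersion) hg.flip inferInstance
  haveI : CompactSpace X.left := QuasiCompact.compactSpace_of_compactSpace X.hom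
  let P : Γ(X.left, ⊤) := Coh.toGlobal X.hom ϖ
  let U := X.left.basicOpen P
  have hrange : Set.range g = (U : Set X.left) := by
    have h1 : Set.range g = X.hom ⁻¹' Set.range (Spec.map (CommRingCat.ofHom (algebraMap R (FractionRing R)))) := by
      rw [← hg.isoPullback_hom_fst, Scheme.Hom.comp_base, TopCat.coe_comp, Set.range_comp,
        show Set.range hg.isoPullback.hom = Set.univ from
          Function.Surjective.range_eq (hg.isoPullback.hom.homeomorph.surjective), Set.image_univ,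
        Scheme.Pullback.range_fst]
    rw [h1, hjrange]
    have h2 : X.hom ⁻¹ᵁ (Spec (CommRingCat.of R)).basicOpen ((Scheme.ΓSpecIso (CommRingCat.of R)).inv ϖ) = U :=
      Scheme.preimage_basicOpen_top _ _
    rw [basicOpen_eq_of_affine] at h2
    exact congrArg SetLike.coe h2
  have hUne : (U : Set X.left).Nonempty := hrange ▸ Set.range_nonempty _
  -- the trivialisation over the open
  obtain ⟨τ⟩ := htriv
  have hle : Set.range U.ι ⊆ Set.range g := by rw [Scheme.Opens.range_ι, hrange]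
  let t : U.toScheme ⟶ C := IsOpenImmersion.lift g U.ι hle
  have ht : t ≫ g = U.ι := IsOpenImmersion.lift_fac _ _ _
  let φ : M.restrict U.ι ≅ Coh.structureModule (U : Scheme.{u}) :=
    (Scheme.Modules.restrictFunctorIsoPullback U.ι).app M ≪≫ (Scheme.Modules.pullbackCongr ht.symm).app M ≪≫
      ((Scheme.Modules.pullbackComp t g).app M).symm ≪≫ (Scheme.Modules.pullback t).mapIso τ ≪≫
      Groth.L29.LocFree.pullbackUnitIso t
  obtain ⟨σ, hσ⟩ := Groth.L21.Extend.exists_gen_of_iso _ φ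
  have hσ' : IsFrame M U σ := hσ
  obtain ⟨N, T, hT⟩ := exists_section_extend hM P hUne hσ'
  have hunit : IsUnit (ro (le_top : U ≤ ⊤) (P ^ N)) := by
    rw [show ro (le_top : U ≤ ⊤) (P ^ N) = ro le_top P ^ N from map_pow _ _ _]
    exact (RingedSpace.isUnit_res_basicOpen X.left.toRingedSpace P).pow N
  have hTU : IsFrame M U (rs M le_top T) := by rw [hT]; exact hσ'.smul_unit hunit
  let s := Groth.L16.homOfSection M T
  have hs : secOf s = T := Groth.L18.GenLoc.secOf_homOfSection T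
  have hgen : ∀ z ∈ U, z ∈ CohB1.genLocus M s := fun z hz => by
    have h := genLocus_inf_eq s hTU (a := 1) (by rw [one_smul, hs])
    rw [Scheme.basicOpen_of_isUnit _ isUnit_one] at h
    have hz' : z ∈ CohB1.genLocus M s ⊓ U := h.symm ▸ hz
    exact hz'.1
  have hη : genericPoint X.left ∈ CohB1.genLocus M s :=
    hgen _ ((genericPoint_spec X.left).mem_open_set_iff U.2 |>.2 (by simpa using hUne))
  set I := PicF2.zeroScheme M s
  have hI := Groth.L03.SurfAmple.isEffCartierIdeal_zeroScheme hM s hη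
  obtain ⟨eI⟩ := Groth.L03.SurfAmple.nonempty_tensor_zeroScheme hM s hη
  have hsupp : (I.support : Set X.left) ⊆ Models.specialFibreSet R X := fun z hz => by
    have hz' : z ∉ CohB1.genLocus M s := (Groth.L22.ZeroScheme.support_zeroScheme hM s).le hz
    have hzU : z ∉ U := fun h => hz' (hgen z h)
    rw [Scheme.mem_basicOpen_top] at hzU
    rw [mem_specialFibreSet]
    intro c hc hu
    rw [hϖ.maximalIdeal_eq, Ideal.mem_span_singleton] at hc
    exact hzU (isUnit_of_dvd_unit (map_dvd (Models.stalkHom R X z) hc) hu)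
  obtain ⟨e, he⟩ := exists_eq_div hreg hΓ hI hsupp
  replace eI : CohB1.tensorMod (ClSub.idealMod (div Γs e)) M ≅ Coh.structureModule X.left := eqToIso (by rw [← he]) ≪≫ eI
  have hD := isEffCartier hreg hΓ
  obtain ⟨eb⟩ := isInverseOf_multiTwist hD hL e
  obtain ⟨e0⟩ := isInverseOf_multiTwist hD hL (fun _ => 0)
  obtain ⟨e1⟩ := nonempty_idealMod_one (Z := X.left)
  have e0' : CohB1.tensorMod (FGA.multiTwist L fun _ => 0) (ClSub.idealMod (1 : X.left.IdealSheafData)) ≅
      Coh.structureModule X.left :=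
    eqToIso (by rw [Finset.prod_congr rfl fun i _ => pow_zero (Γs i).ι.ker, Finset.prod_const_one]) ≪≫ e0
  obtain ⟨i⟩ := Groth.L03.BlowPt.nonempty_iso_of_inverse (tensorComm M (ClSub.idealMod (div Γs e)) ≪≫ eI) eb
  exact ⟨fun _ => 0, e, ⟨tensorIso (Iso.refl M) ((tensorUnitRight _).symm ≪≫ tensorIso (Iso.refl _) e1.symm ≪≫ e0') ≪≫
    tensorUnitRight M ≪≫ i⟩⟩

end Groth.L05.InterPair
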