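import Groth.Agent.L05.InterPair.Main

/-!
Intersection numbers as lengths over the base ring.
-/

set_option autoImplicit false
set_option backward.isDefEq.respectTransparency false
set_option linter.style.haveILetI false
set_option linter.unusedSectionVars false
universe u

open CategoryTheory CategoryTheory.Limits AlgebraicGeometry TopologicalSpace Groth.L16

noncomputable section

namespace Groth.L05.InterPair

section Ring

variable {A : Type u} [CommRing A] {Z W : Scheme.{u}} [Z.Over (Spec (CommRingCat.of A))]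
  [W.Over (Spec (CommRingCat.of A))]

/-- Cohomology along an affine morphism to a separated scheme, linearly over any base ring. -/
theorem exists_HH_push (f : Z ⟶ W) [IsAffineHom f] [W.IsSeparated] (M : Z.Modules)
    (hM : Coh.IsQCoh M) (hf : f ≫ (W ↘ Spec (CommRingCat.of A)) = Z ↘ Spec (CommRingCat.of A)) (p : ℕ) :
    Nonempty (Coh.HH Z M p ≃ₗ[A] Coh.HH W ((Coh.push f).obj M) p) := by
  haveI := hM
  haveI : Coh.IsQCoh ((Coh.push f).obj M) := QcqsPush.isQCoh_push M f
  let V : W.affineOpens → W.Opens := fun U => U.1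
  have hV : ∀ (n : ℕ) (a : Fin (n + 1) → W.affineOpens), IsAffineOpen (⨅ j, V (a j)) :=
    fun n a => IsAffineOpen.iInf fun j => (a j).2
  obtain ⟨e, he⟩ := PushCompare.exists_HH_push f M V (iSup_affineOpens_eq_top W)
    (fun n a q => subsingleton_of_forall_eq 0 (Groth.L17.hu_affine_eq_zero M ((hV n a).preimage f) q))
    (fun n a q => subsingleton_of_forall_eq 0 (Groth.L17.hu_affine_eq_zero _ (hV n a) q)) p
  exact ⟨{ e with
    map_smul' := fun a x => by
      have h0 : Coh.toGlobal (Z ↘ Spec (CommRingCat.of A)) a =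
          (show Coh.Γtop Z from f.appTop (Coh.toGlobal (W ↘ Spec (CommRingCat.of A)) a)) :=
        congrArg (fun g : Z ⟶ Spec (CommRingCat.of A) => Coh.toGlobal g a) hf.symm
      exact (congrArg e (congrArg (fun c : Coh.Γtop Z => c • x) h0)).trans
        (he (Coh.toGlobal (W ↘ Spec (CommRingCat.of A)) a) x) }⟩

/-- An isomorphism of modules, linearly on cohomology. -/
def hhIso {M N : Z.Modules} (e : M ≅ N) (i : ℕ) : Coh.HH Z M i ≃ₗ[A] Coh.HH Z N i :=
  LinearEquiv.ofLinear (CohLinear.overLin A (CohLinear.hmap e.hom i)) (CohLinear.overLin A (CohLinear.hmap e.inv i))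
    (LinearMap.ext fun x => (CohLinear.hmap_comp e.inv e.hom i x).symm.trans
      (by rw [e.inv_hom_id]; exact CohLinear.hmap_id i x))
    (LinearMap.ext fun x => (CohLinear.hmap_comp e.hom e.inv i x).symm.trans
      (by rw [e.hom_inv_id]; exact CohLinear.hmap_id i x))

end Ring

variable {R : Type u} [CommRing R] [IsDomain R] [IsDiscreteValuationRing R]
  {X : Over (Spec (CommRingCat.of R))}

local notation "κ" => IsLocalRing.ResidueField R

variable [IsProper X.hom] [IsLocallyNoetherian X.left] (Γ : ArSurf.VertComp R X)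

theorem lengthH_sup_eq_finrank (D : X.left.IdealSheafData) :
    Models.lengthH R X (ClSub.quotMod (D ⊔ Γ.ι.ker)) 0 =
      Module.finrank κ (Coh.HH Γ.curve.left (ClSub.quotMod (D.comap Γ.ι)) 0) := by
  set E := D.comap Γ.ι
  set J := D ⊔ Γ.ι.ker
  haveI := isProper_curve Γ
  haveI := Groth.L21.RR.isNoetherian_of_proper (X := Γ.curve.left) κ
  let a := E.subschemeι ≫ Γ.ι
  have hk : J.subschemeι.ker = a.ker := by
    rw [Scheme.IdealSheafData.ker_subschemeι]
    show J = E.map Γ.ι
    rw [map_comap_closed, sup_comm]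
  haveI := IsClosedImmersion.isIso_lift J.subschemeι a hk
  let θ := IsClosedImmersion.lift J.subschemeι a hk.le
  have hθ : θ ≫ J.subschemeι = a := IsClosedImmersion.lift_fac _ _ _
  letI : J.subscheme.Over (Spec (CommRingCat.of R)) := ⟨J.subschemeι ≫ X.hom⟩
  letI : E.subscheme.Over (Spec (CommRingCat.of R)) := ⟨a ≫ X.hom⟩
  letI : E.subscheme.Over (Spec (CommRingCat.of κ)) := ⟨E.subschemeι ≫ Γ.curve.hom⟩
  haveI : IsLocallyNoetherian J.subscheme := LocallyOfFiniteType.isLocallyNoetherian J.subschemeι
  haveI : IsLocallyNoetherian E.subscheme := LocallyOfFiniteType.isLocallyNoetherian E.subschemeι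
  haveI : X.left.IsSeparated := ⟨by rw [← terminal.comp_from X.hom]; infer_instance⟩
  haveI : J.subscheme.IsSeparated := ⟨by rw [← terminal.comp_from J.subschemeι]; infer_instance⟩
  obtain ⟨e₁⟩ := exists_HH_push (A := R) J.subschemeι (Coh.structureModule _)
    (CohClosedPush.isCoh_structure (X := J.subscheme)).1 rfl 0
  obtain ⟨e₂⟩ := exists_HH_push (A := R) θ (Coh.structureModule _)
    (CohClosedPush.isCoh_structure (X := E.subscheme)).1 (by
      show θ ≫ J.subschemeι ≫ X.hom = a ≫ X.hom
      rw [← Category.assoc, hθ]) 0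
  haveI := Groth.L20.DescLocus.isIso_unitToPush θ (fun U => inferInstance)
  let e : Coh.HH E.subscheme (Coh.structureModule _) 0 ≃ₗ[R] Coh.HH X.left (ClSub.quotMod J) 0 :=
    (e₂.trans (hhIso (A := R) (asIso (ClSub.unitToPush θ)) 0).symm).trans e₁
  obtain ⟨e₃⟩ := exists_HH_quot_equiv Γ E
  haveI : Module.Finite κ (Coh.HH Γ.curve.left (ClSub.quotMod E) 0) :=
    Groth.L21.RR.finite_HH' (k := κ) (Groth.L21.RR.isCoh_quotMod E) 0
  haveI : Module.Finite κ (Coh.HH E.subscheme (Coh.structureModule _) 0) := Module.Finite.equiv e₃.symm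
  rw [Models.lengthH, ← e.length_eq, ← e₃.finrank_eq]
  haveI : IsScalarTower R κ (Coh.HH E.subscheme (Coh.structureModule _) 0) :=
    IsScalarTower.of_algebraMap_smul fun r x => by
      have h0 : Coh.toGlobal (E.subschemeι ≫ Γ.curve.hom) (IsLocalRing.residue R r) =
          Coh.toGlobal (a ≫ X.hom) r := by
        have hw : a ≫ X.hom = (E.subschemeι ≫ Γ.curve.hom) ≫
            Spec.map (CommRingCat.ofHom (IsLocalRing.residue R)) := by
          simp only [a, Category.assoc, Γ.w]
        rw [hw]
        simp only [Coh.toGlobal, Scheme.Hom.comp_appTop, CommRingCat.hom_comp, RingHom.comp_apply]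
        exact congrArg (fun t => E.subschemeι.appTop (Γ.curve.hom.appTop t))
          congr($(Scheme.ΓSpecIso_inv_naturality (CommRingCat.ofHom (IsLocalRing.residue R))) r)
      exact congrArg (fun c : Coh.Γtop E.subscheme => c • x) h0
  rw [Module.length_eq_of_surjective (S := R) (R := κ) (M := Coh.HH E.subscheme (Coh.structureModule _) 0)
    Ideal.Quotient.mk_surjective, Module.length_eq_finrank, ENat.toNat_natCast]

end Groth.L05.InterPair
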