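import Groth.Agent.L05.InterPair.Model
import Groth.Agent.S2209
import Groth.Agent.S2171

/-!
Positivity of multiplicities, connectedness and semi-definiteness of the intersection form.
-/

set_option autoImplicit false
set_option backward.isDefEq.respectTransparency false
set_option linter.style.haveILetI false
set_option linter.unusedSectionVars false
universe u

open CategoryTheory CategoryTheory.Limits AlgebraicGeometry TopologicalSpace

noncomputable section

namespace Groth.L05.InterPair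

open Groth.L05.FibreDecomp

variable {R : Type u} [CommRing R] [IsDomain R] [IsDiscreteValuationRing R]
  {X : Over (Spec (CommRingCat.of R))} [IsLocallyNoetherian X.left] [Flat X.hom]
  (hreg : Models.IsRegularScheme X.left) {n : ℕ} {Γs : Fin n → ArSurf.VertComp R X}
  (hΓ : Models.IsComponentList R X Γs)

include hreg hΓ

theorem mult_pos (i : Fin n) : 0 < Models.mult R X (Γs i) := by
  obtain ⟨ϖ, hϖ⟩ := IsDiscreteValuationRing.exists_irreducible R
  set ξ := Models.genPtOf R X (Γs i)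
  obtain ⟨_, ⟨W, hW, rfl⟩, hξW, -⟩ :=
    X.left.isBasis_affineOpens.exists_subset_of_mem_open (Set.mem_univ ξ) isOpen_univ
  let U : X.left.affineOpens := ⟨W, hW⟩
  haveI := hreg ξ
  haveI := Groth.L01.isDomain_of_regular (X.left.presheaf.stalk ξ)
  haveI := Groth.L10.RegUFD.isUFD (X.left.presheaf.stalk ξ)
  haveI := isIntegral_subscheme_ker (Γs i)
  have hgen := isGenericPoint_genPtOf (Γs i)
  obtain ⟨t, ht, hspan⟩ := exists_prime_generator (Γs i).ι.ker U ξ hξW hgen (dim_genPtOf hreg hΓ i) hgen.mem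
  rw [stalkIdeal_generic _ U ξ hξW hgen] at hspan
  obtain ⟨a, ha⟩ := exists_associated_prod_pow ({()} : Finset Unit) (fun _ => t) (Models.stalkHom R X ξ ϖ)
    (stalkHom_ne_zero ξ hϖ.ne_zero) fun q hq _ => by
      have hq' : q ∈ IsLocalRing.maximalIdeal (X.left.presheaf.stalk ξ) := hq.not_isUnit
      rw [hspan, Ideal.mem_span_singleton] at hq'
      exact ⟨(), by simp, (ht.associated_of_dvd hq hq').symm⟩
  rw [Finset.prod_singleton] at ha
  have hpos : a () ≠ 0 := fun h0 => by
    have hmem : ξ ∈ Models.specialFibreSet R X := by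
      have hi : Set.range ((Γs i).ι.base : (Γs i).curve.left → X.left) ∈ Models.fibreComponents R X :=
        hΓ.2 ▸ ⟨i, rfl⟩
      exact hi.1.2 ⟨_, rfl⟩
    rw [h0, pow_zero, associated_one_iff_isUnit] at ha
    exact mem_specialFibreSet.1 hmem ϖ (by rw [hϖ.maximalIdeal_eq]; exact Ideal.mem_span_singleton_self ϖ) ha
  show 0 < (Module.length _ (_ ⧸ (IsLocalRing.maximalIdeal R).map (Models.stalkHom R X ξ))).toNat
  rw [hϖ.maximalIdeal_eq, Ideal.map_span, Set.image_singleton, Ideal.span_singleton_eq_span_singleton.2 ha,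
    length_quotient_span_pow hspan ht.ne_zero, ENat.toNat_natCast]
  omega

variable [IsProper X.hom] [IsIntegral X.left] {L : Fin n → X.left.Modules}
  (hL : ∀ i, ClSub.IsInverseOf (L i) (ClSub.idealMod (Γs i).ι.ker))

include hL

theorem inter_connected (hconn : _root_.IsPreconnected (Models.specialFibreSet R X)) (I : Finset (Fin n))
    (hI : I.Nonempty) (hI' : I ≠ Finset.univ) :
    ∃ i ∈ I, ∃ j ∉ I, ArSurf.inter R X (L j) (Γs i) ≠ 0 := by
  classical
  by_contra h
  push Not at h
  let S : Fin n → Set X.left := fun i => Set.range ((Γs i).ι.base : (Γs i).curve.left → X.left)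
  have hS : ∀ i, IsClosed (S i) ∧ S i ⊆ Models.specialFibreSet R X := fun i => by
    have hi : S i ∈ Models.fibreComponents R X := hΓ.2 ▸ ⟨i, rfl⟩
    exact ⟨(Γs i).ι.isClosedEmbedding.isClosed_range, hi.1.2⟩
  let A : Set X.left := ⋃ i ∈ I, S i
  let B : Set X.left := ⋃ i ∈ Finset.univ \ I, S i
  have hA : IsClosed A := Set.Finite.isClosed_biUnion I.finite_toSet fun i _ => (hS i).1
  have hB : IsClosed B := Set.Finite.isClosed_biUnion (Finset.univ \ I).finite_toSet fun i _ => (hS i).1
  have hcov : Models.specialFibreSet R X ⊆ A ∪ B := fun x hx => by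
    obtain ⟨i, hi⟩ := exists_component hΓ hx
    by_cases hiI : i ∈ I
    · exact Or.inl (Set.mem_iUnion₂.2 ⟨i, hiI, hi⟩)
    · exact Or.inr (Set.mem_iUnion₂.2 ⟨i, by simp [hiI], hi⟩)
  obtain ⟨i₀, hi₀⟩ := hI
  obtain ⟨j₀, hj₀⟩ : ∃ j, j ∉ I := by
    by_contra hall
    push Not at hall
    exact hI' (Finset.eq_univ_iff_forall.2 hall)
  have hnA : (Models.specialFibreSet R X ∩ A).Nonempty :=
    ⟨_, (hS i₀).2 ⟨genericPoint _, rfl⟩, Set.mem_iUnion₂.2 ⟨i₀, hi₀, genericPoint _, rfl⟩⟩
  have hnB : (Models.specialFibreSet R X ∩ B).Nonempty :=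
    ⟨_, (hS j₀).2 ⟨genericPoint _, rfl⟩, Set.mem_iUnion₂.2 ⟨j₀, by simp [hj₀], genericPoint _, rfl⟩⟩
  obtain ⟨x, -, hxA, hxB⟩ := isPreconnected_closed_iff.1 hconn A B hA hB hcov hnA hnB
  obtain ⟨i, hi, hxi⟩ := Set.mem_iUnion₂.1 hxA
  obtain ⟨j, hj, hxj⟩ := Set.mem_iUnion₂.1 hxB
  have hj' : j ∉ I := (Finset.mem_sdiff.1 hj).2
  exact Set.disjoint_left.1
    ((inter_nonneg_and_eq_zero_iff hreg hΓ hL (fun e : i = j => hj' (e ▸ hi))).2.1 (h i hi j hj')) hxi hxj

theorem form_nonpos_and_eq_zero_iff (hconn : _root_.IsPreconnected (Models.specialFibreSet R X)) (a : Fin n → ℤ) :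
    (∑ q : Fin n × Fin n, a q.1 * a q.2 * ArSurf.inter R X (L q.2) (Γs q.1)) ≤ 0 ∧
      ((∑ q : Fin n × Fin n, a q.1 * a q.2 * ArSurf.inter R X (L q.2) (Γs q.1)) = 0 ↔
        ∃ c : ℚ, ∀ i, (a i : ℚ) = c * (Models.mult R X (Γs i) : ℚ)) := by
  classical
  let M : Matrix (Fin n) (Fin n) ℝ := fun i j => (ArSurf.inter R X (L j) (Γs i) : ℤ)
  let m : Fin n → ℝ := fun i => (Models.mult R X (Γs i) : ℕ)
  have hkey := Groth.Agent.S2171.result M m
    (Matrix.IsSymm.ext fun i j => by simp only [M]; rw [inter_symm hreg hΓ hL])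
    (fun i j hij => by simp only [M]; exact_mod_cast (inter_nonneg_and_eq_zero_iff hreg hΓ hL hij).1)
    (fun i => by simp only [m]; exact_mod_cast mult_pos hreg hΓ i)
    (funext fun i => by
      have h := congrArg (Int.cast : ℤ → ℝ) (sum_mult_mul_inter hreg hΓ hL (Γs i))
      push_cast at h
      show ∑ j, M i j * m j = 0
      rw [← h]
      exact Finset.sum_congr rfl fun j _ => mul_comm _ _)
    (fun I hI hI' => by
      obtain ⟨i, hi, j, hj, h⟩ := inter_connected hreg hΓ hL hconn I hI hI'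
      exact ⟨i, hi, j, hj, by simpa [M] using h⟩)
    (fun i => (a i : ℝ))
  have hsum : dotProduct (fun i => (a i : ℝ)) (M.mulVec fun i => (a i : ℝ)) =
      ((∑ q : Fin n × Fin n, a q.1 * a q.2 * ArSurf.inter R X (L q.2) (Γs q.1) : ℤ) : ℝ) := by
    rw [Fintype.sum_prod_type]
    push_cast
    simp only [dotProduct, Matrix.mulVec, M, Finset.mul_sum]
    exact Finset.sum_congr rfl fun i _ => Finset.sum_congr rfl fun j _ => by ring
  rw [hsum] at hkey
  refine ⟨Int.cast_nonpos.1 hkey.1, Iff.trans (Int.cast_eq_zero.symm.trans hkey.2) ⟨?_, ?_⟩⟩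
  · rintro ⟨q, hq⟩
    rcases Nat.eq_zero_or_pos n with hn | hn
    · exact ⟨0, fun i => absurd i.2 (by omega)⟩
    let i₀ : Fin n := ⟨0, hn⟩
    refine ⟨(a i₀ : ℚ) / (Models.mult R X (Γs i₀) : ℚ), fun i => ?_⟩
    have h0 : (a i₀ : ℝ) = q * m i₀ := congrFun hq i₀
    have hi : (a i : ℝ) = q * m i := congrFun hq i
    have hm0 : (Models.mult R X (Γs i₀) : ℚ) ≠ 0 := by exact_mod_cast (mult_pos hreg hΓ i₀).ne'
    have h1 : ((a i * (Models.mult R X (Γs i₀) : ℤ) : ℤ) : ℝ) = ((a i₀ * (Models.mult R X (Γs i) : ℤ) : ℤ) : ℝ) := by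
      push_cast
      rw [h0, hi]
      simp only [m]
      ring
    have h2 : a i * (Models.mult R X (Γs i₀) : ℤ) = a i₀ * (Models.mult R X (Γs i) : ℤ) := by exact_mod_cast h1
    rw [div_mul_eq_mul_div, eq_div_iff hm0]
    exact_mod_cast h2
  · rintro ⟨c, hc⟩
    refine ⟨(c : ℝ), funext fun i => ?_⟩
    have h := congrArg (Rat.cast : ℚ → ℝ) (hc i)
    push_cast at h
    exact h

end Groth.L05.InterPair

namespace Groth.L05.InterPair

variable (R : Type u) [CommRing R] [IsDomain R] [IsDiscreteValuationRing R]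

theorem isPreconnected_specialFibreSet {C X : Scheme.{u}}
    (f : C ⟶ Spec (CommRingCat.of (FractionRing R))) (p : X ⟶ Spec (CommRingCat.of R))
    (hC : Curve.IsSmoothProperCurve (FractionRing R) C f) (hH0 : IsIso f.appTop)
    (hX : Models.IsRegularProperModel R X p C f) :
    _root_.IsPreconnected (Models.specialFibreSet R (Over.mk p)) := by
  haveI : ConnectedSpace ↥(Models.specialFibre R X p) := Groth.Agent.S2209.result R C X f p hC hH0 hX
  let j : Spec (CommRingCat.of (IsLocalRing.ResidueField R)) ⟶ Spec (CommRingCat.of R) :=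
    Spec.map (CommRingCat.ofHom (algebraMap R (IsLocalRing.ResidueField R)))
  have hj : Set.range j = {IsLocalRing.closedPoint R} := by
    ext x
    constructor
    · rintro ⟨y, rfl⟩
      refine PrimeSpectrum.ext ?_
      show Ideal.comap (algebraMap R (IsLocalRing.ResidueField R)) y.asIdeal = IsLocalRing.maximalIdeal R
      rw [show y.asIdeal = (⊥ : Ideal (IsLocalRing.ResidueField R)) from
        (Ideal.eq_bot_or_top y.asIdeal).resolve_right y.2.ne_top]
      exact Ideal.mk_ker
    · rintro rfl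
      refine ⟨IsLocalRing.closedPoint _, PrimeSpectrum.ext ?_⟩
      show Ideal.comap (algebraMap R (IsLocalRing.ResidueField R)) (IsLocalRing.maximalIdeal _) = _
      rw [IsLocalRing.maximalIdeal_eq_bot]
      exact Ideal.mk_ker
  have h : Models.specialFibreSet R (Over.mk p) = Set.range (pullback.fst p j) := by
    rw [Scheme.Pullback.range_fst, hj]
    rfl
  rw [h]
  haveI : ConnectedSpace ↥(pullback p j) := ‹_›
  exact isPreconnected_range (pullback.fst p j).continuous

end Groth.L05.InterPair
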